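import Cfsg.Agent.RuC.Lat

set_option autoImplicit false

/-! Automorphisms of the Rudvalis lattice. -/

namespace Cfsg.Agent.RuC

open Cfsg.Spor Cfsg.Agent.CGT Matrix

def ip (v w : RuVec) : Z := v ⬝ᵥ star w

theorem ip_self (v : RuVec) : ip v v = (ruNorm v : ℤ) := by
  simp [ip, ruNorm, dotProduct, Zsqrtd.norm_eq_mul_conj]

theorem norm_add (v w : RuVec) : ruNorm (v + w) = ruNorm v + ruNorm w + 2 * (ip v w).re := by
  have : (ip v w).re = ∑ p, reH (v p * star (w p)) := by rw [← map_sum]; rfl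
  rw [this, ruNorm, ruNorm, ruNorm, Finset.mul_sum, ← Finset.sum_add_distrib, ← Finset.sum_add_distrib]
  refine Finset.sum_congr rfl fun p _ => ?_
  change _ = _ + _ + 2 * (v p * star (w p)).re
  simp [Zsqrtd.norm_def]
  ring

theorem ip_smul (a : Z) (v w : RuVec) : ip (a • v) w = a * ip v w := by simp [ip]

variable (f : fourRu)

/-- The action on the lattice. -/
abbrev ac (v : ruLattice) : RuVec := ((f : Equiv.Perm ruLattice) v : RuVec)

theorem ip_ac (v w : ruLattice) : ip (ac f v) (ac f w) = ip v w := by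
  have key : ∀ v w : ruLattice, (ip (ac f v) (ac f w)).re = (ip v w).re := fun v w => by
    have h1 := f.2.2.2 (v + w)
    rw [f.2.1, AddSubgroup.coe_add, AddSubgroup.coe_add, norm_add, norm_add, f.2.2.2, f.2.2.2] at h1
    exact mul_left_cancel₀ two_ne_zero (add_left_cancel h1)
  refine Zsqrtd.ext (key v w) ?_
  have h := key (ruI v) w
  rw [ac, f.2.2.1] at h
  simpa [ruI, ip_smul, gI] using h

/-- The additive map of an automorphism. -/
def addH : ruLattice →+ ruLattice := AddMonoidHom.mk' (f : Equiv.Perm ruLattice) f.2.1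

theorem ac_smul (a : Z) (v : ruLattice) : ac f ⟨a • v, lat_smul a v.2⟩ = a • ac f v := by
  have h : (⟨a • v, lat_smul a v.2⟩ : ruLattice) = a.re • v + a.im • ruI v := Subtype.ext (smul_eq a v)
  have h2 : addH f (ruI v) = ruI (addH f v) := f.2.2.1 v
  change (addH f _ : RuVec) = a • (addH f v : RuVec)
  rw [h, map_add, map_zsmul, map_zsmul, h2, smul_eq]
  rfl

variable (hE : ∀ p, (Pi.single p 4 : RuVec) ∈ ruLattice)

theorem ac_eq (v : ruLattice) : (4 : Z) • ac f v = ∑ p, (v : RuVec) p • ac f ⟨_, hE p⟩ := by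
  have h : (⟨(4 : Z) • v, lat_smul 4 v.2⟩ : ruLattice) =
      ∑ p, ⟨(v : RuVec) p • Pi.single p 4, lat_smul _ (hE p)⟩ := Subtype.ext (by
    rw [AddSubmonoidClass.coe_finsetSum]
    funext q
    simp [Pi.single_apply, mul_comm])
  rw [← ac_smul, h]
  change (addH f _ : RuVec) = _
  rw [map_sum, AddSubmonoidClass.coe_finsetSum]
  exact Finset.sum_congr rfl fun p _ => ac_smul f _ ⟨_, hE p⟩

theorem four_inj {v w : RuVec} (h : (4 : Z) • v = (4 : Z) • w) : v = w :=
  smul_right_injective _ (by decide) h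

theorem eq_one_of_fix (h : ∀ p, ac f ⟨_, hE p⟩ = Pi.single p 4) : f = 1 :=
  Subtype.ext (Equiv.ext fun v => Subtype.ext (four_inj (by
    rw [ac_eq f hE]
    funext q
    simp [h, Pi.single_apply, mul_comm])))

/-- Reduction modulo a prime above five. -/
def φ : Z →+* ZMod 5 := Zsqrtd.lift ⟨2, by decide⟩

theorem φ_apply (z : Z) : φ z = z.re + z.im * 2 := rfl

def red (v : RuVec) : RuIdx → ZMod 5 := fun p => φ (v p)

/-- The matrix of an automorphism modulo the prime. -/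
def mat0 : Matrix RuIdx RuIdx (ZMod 5) := Matrix.of fun q p => -φ (ac f ⟨_, hE p⟩ q)

theorem red_ac (v : ruLattice) : red (ac f v) = mat0 f hE *ᵥ red v := funext fun q => by
  have h := congrArg φ (congrFun (ac_eq f hE v) q)
  rw [Pi.smul_apply, smul_eq_mul, map_mul, show φ 4 = -1 from rfl, Finset.sum_apply, map_sum] at h
  rw [red, ← neg_neg (φ _), ← neg_one_mul (φ _), h, mulVec, dotProduct, ← Finset.sum_neg_distrib]
  exact Finset.sum_congr rfl fun p _ => by simp [mat0, red, mul_comm]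

/-- The representation modulo the prime. -/
def ρ : fourRu →* Matrix RuIdx RuIdx (ZMod 5) where
  toFun f := mat0 f hE
  map_one' := by
    ext q p
    change -φ ((Pi.single p 4 : RuVec) q) = _
    rw [Pi.single_apply, one_apply]
    split_ifs <;> rfl
  map_mul' f g := by
    ext q p
    have h := congrFun (red_ac f hE ((g : Equiv.Perm ruLattice) ⟨_, hE p⟩)) q
    change -red (ac f ((g : Equiv.Perm ruLattice) ⟨_, hE p⟩)) q = _
    rw [h, mul_apply, mulVec, dotProduct, ← Finset.sum_neg_distrib]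
    exact Finset.sum_congr rfl fun r _ => by simp [mat0, red]

/-- Multiplication by `i`. -/
def iota : fourRu := ⟨⟨ruI, fun v => -ruI v, fun v => Subtype.ext (funext fun p => by ext <;> simp [ruI, gI]),
    fun v => Subtype.ext (funext fun p => by ext <;> simp [ruI, gI])⟩,
  fun v w => Subtype.ext (smul_add _ _ _), fun _ => rfl, fun v => by
    change ruNorm (gI • (v : RuVec)) = _
    simp [ruNorm, gI, Zsqrtd.norm_mul, show Zsqrtd.norm (⟨0, 1⟩ : Z) = 1 from rfl]⟩

theorem iota_mem : iota ∈ Subgroup.center fourRu :=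
  Subgroup.mem_center_iff.2 fun g => Subtype.ext (Equiv.ext fun v => g.2.2.1 v)

include hE in
theorem iota_order : orderOf iota = 4 := by
  refine orderOf_eq_prime_pow (p := 2) (n := 1) (fun h => ?_) ?_
  · have h1 : gI * (gI * 4) = 4 := congrArg (fun g : fourRu => ac g ⟨_, hE (0, 0)⟩ (0, 0)) h
    revert h1
    decide
  · refine Subtype.ext (Equiv.ext fun v => Subtype.ext (funext fun p => ?_))
    change gI * (gI * (gI * (gI * (v : RuVec) p))) = (v : RuVec) p
    ext <;> simp [gI]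

omit hE f in
theorem exists_aut {M : Matrix RuIdx RuIdx Z} (h1 : M * Mᴴ = (16 : Z) • 1) (h2 : Mᴴ * M = (16 : Z) • 1)
    (h3 : ∀ v ∈ ruLattice, ∃ u ∈ ruLattice, v ᵥ* M = (4 : Z) • u)
    (h4 : ∀ v ∈ ruLattice, ∃ u ∈ ruLattice, v ᵥ* Mᴴ = (4 : Z) • u) :
    ∃ f : fourRu, ∀ v, (4 : Z) • ac f v = (v : RuVec) ᵥ* M := by
  choose! a a1 a2 using h3
  choose! b b1 b2 using h4
  have k : ∀ {M M' : Matrix RuIdx RuIdx Z} {u w v : RuVec}, M * M' = (16 : Z) • 1 → v ᵥ* M = (4 : Z) • u →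
      u ᵥ* M' = (4 : Z) • w → w = v := fun {M M' u w v} e e1 e2 => four_inj (four_inj (by
    rw [← e2, ← smul_vecMul, ← e1, vecMul_vecMul, e, vecMul_smul, vecMul_one, smul_smul]; rfl))
  refine ⟨⟨⟨fun v => ⟨a v, a1 v v.2⟩, fun v => ⟨b v, b1 v v.2⟩,
    fun v => Subtype.ext (k h1 (a2 v v.2) (b2 _ (a1 v v.2))),
    fun v => Subtype.ext (k h2 (b2 v v.2) (a2 _ (b1 v v.2)))⟩, fun v w => Subtype.ext (four_inj ?_),
    fun v => Subtype.ext (four_inj ?_), fun v => ?_⟩, fun v => (a2 v v.2).symm⟩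
  · change (4 : Z) • a (v + w : ruLattice) = (4 : Z) • (a v + a w)
    rw [← a2 _ (v + w).2, smul_add, ← a2 _ v.2, ← a2 _ w.2, AddSubgroup.coe_add, add_vecMul]
  · change (4 : Z) • a (ruI v) = (4 : Z) • gI • a v
    rw [← a2 _ (ruI v).2, smul_comm, ← a2 _ v.2, ← smul_vecMul]; rfl
  · change ruNorm (a v) = ruNorm v
    have h5 : ip ((v : RuVec) ᵥ* M) ((v : RuVec) ᵥ* M) = 16 * ip v v := by
      rw [ip, star_vecMul, dotProduct_mulVec, vecMul_vecMul, h1, vecMul_smul, vecMul_one, smul_dotProduct]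
      rfl
    rw [a2 v v.2, ip, star_smul, smul_dotProduct, dotProduct_smul, smul_smul, ← ip, ip_self, ip_self] at h5
    exact Int.cast_injective (mul_left_cancel₀ (show (16 : Z) ≠ 0 by decide) h5)

/-- The matrix with the given rows. -/
noncomputable def mt (W : List (List Z)) : Matrix RuIdx RuIdx Z := Matrix.of fun p => vec (nth [] W (σ p))

theorem vec_mul {W : List (List Z)} (hW : W.length = 28) (l : List Z) : vec l ᵥ* mt W = comb l W := by
  rw [comb, hW, ← sum_co, vecMul_eq_sum]; rfl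

def e16 (k : ℕ) : List Z := List.ofFn fun q : Fin 28 => if (q : ℕ) = k then 16 else 0

/-- One half of the test for an automorphism. -/
noncomputable def autB (B : List (List Z)) (Bp : List Z) (W W' A : List (List Z)) (Wp : List Z) : Bool :=
  Nat.beq W.length 28 && (rowsB W Wp && ((allLt 28 fun k => isC Wp (nth [] W' k) (e16 k)) &&
    allLt B.length fun k => bnd (nth [] B k) && (bnd ((nth [] A k).map (4 * ·)) &&
      decide (dotP (nth [] B k) Wp = dotP ((nth [] A k).map (4 * ·)) Bp))))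

theorem autB_sound {B : List (List Z)} {Bp : List Z} (h : rowsB B Bp = true)
    (hB : ∀ l ∈ B, vec l ∈ ruLattice)
    (ind : ∀ {P : RuVec → Prop}, (∀ l ∈ B, P (vec l)) → P 0 → (∀ v w, P v → P w → P (v + w)) →
      (∀ (a : Z) v, P v → P (a • v)) → ∀ v ∈ ruLattice, P v)
    {W W' A : List (List Z)} {Wp : List Z} (hW : autB B Bp W W' A Wp = true) :
    mt W' * mt W = (16 : Z) • 1 ∧ ∀ v ∈ ruLattice, ∃ u ∈ ruLattice, v ᵥ* mt W = (4 : Z) • u := by
  simp only [autB, Bool.and_eq_true, Nat.beq_eq, allLt_iff, decide_eq_true_eq] at hW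
  obtain ⟨h1, h2, h3, h4⟩ := hW
  refine ⟨?_, ind (fun l hl => ?_) ⟨0, zero_mem _, by simp⟩ ?_ ?_⟩
  · ext1 p q
    have h5 := congrFun ((isC_sound h2 (h3 _ (σ p).2)).trans (vec_mul h1 _).symm) q
    rw [mul_apply']
    change (vec (nth [] W' (σ p)) ᵥ* mt W) q = _
    rw [← h5, vec, e16, nth_eq, List.getD_eq_getElem _ _ (by simp), List.getElem_ofFn]
    simp [one_apply, Fin.val_inj, eq_comm]
  · obtain ⟨k, hk, rfl⟩ := List.getElem_of_mem hl
    have h5 := h4 k hk
    have h6 := comb_eq h2 h h5.1 h5.2.1 h5.2.2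
    rw [nth_eq _ B, List.getD_eq_getElem _ _ hk] at h6
    refine ⟨_, comb_mem hB (nth [] A k), ?_⟩
    rw [vec_mul h1, h6, comb, comb, Finset.smul_sum]
    refine Finset.sum_congr rfl fun j _ => ?_
    rw [smul_smul, nth_eq, nth_eq _ (nth [] A k), ← List.getD_map _ 0 (4 * ·), mul_zero]
  · rintro v w ⟨a, a1, a2⟩ ⟨b, b1, b2⟩
    exact ⟨a + b, add_mem a1 b1, by rw [add_vecMul, a2, b2, smul_add]⟩
  · rintro z v ⟨a, a1, a2⟩
    exact ⟨z • a, lat_smul z a1, by rw [smul_vecMul, a2, smul_comm]⟩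

def cd (z : Z) : ℕ := ((z.re + z.im * 2) % 5).toNat

instance : Fact (Nat.Prime 5) := ⟨by norm_num⟩

def e5 : ℕ → ZMod 5 := FT.el 5 0

theorem e5_cd (z : Z) : e5 (cd z) = φ z := by
  rw [e5, FT.el_of_lt _ (by unfold cd; omega), φ_apply, cd, ← Int.cast_natCast,
    Int.toNat_of_nonneg (by omega), show (5 : ℤ) = ((5 : ℕ) : ℤ) from rfl, ZMod.intCast_mod]
  push_cast; rfl

/-- The conjugate transpose, and the reduction. -/
noncomputable def trB (T : FT) (W W' : List (List Z)) (A : List ℕ) : Bool :=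
  allLt 28 fun p => allLt 28 fun q => decide (nth 0 (nth [] W' q) p = star (nth 0 (nth [] W p) q)) &&
    Nat.beq (T.dg (nth 0 A q) p) (cd (-nth 0 (nth [] W p) q))

theorem exists_gen {T : FT} {B : List (List Z)} {Bp : List Z} (h : rowsB B Bp = true)
    (hB : ∀ l ∈ B, vec l ∈ ruLattice)
    (ind : ∀ {P : RuVec → Prop}, (∀ l ∈ B, P (vec l)) → P 0 → (∀ v w, P v → P w → P (v + w)) →
      (∀ (a : Z) v, P v → P (a • v)) → ∀ v ∈ ruLattice, P v)
    {W W' A A' : List (List Z)} {Wp Wp' : List Z} (hW : autB B Bp W W' A Wp = true)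
    (hW' : autB B Bp W' W A' Wp' = true) {C : List ℕ} (ht : trB T W W' C = true) :
    ∃ g, ρ hE g = T.mat e5 σ C := by
  simp only [trB, Bool.and_eq_true, Nat.beq_eq, allLt_iff, decide_eq_true_eq] at ht
  have h1 : mt W' = (mt W)ᴴ := by
    ext1 q p
    exact (ht _ (σ p).2 _ (σ q).2).1
  obtain ⟨h2, h3⟩ := autB_sound h hB ind hW
  obtain ⟨h4, h5⟩ := autB_sound h hB ind hW'
  rw [h1] at h2 h4 h5
  obtain ⟨g, hg⟩ := exists_aut h4 h2 h3 h5
  refine ⟨g, ?_⟩
  ext q p
  have h6 : ac g ⟨_, hE p⟩ = mt W p := four_inj (by rw [hg]; simp [single_vecMul]; rfl)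
  change -φ (ac g ⟨_, hE p⟩ q) = e5 (T.dg (nth 0 C (σ q)) (σ p))
  rw [(ht _ (σ p).2 _ (σ q).2).2, e5_cd, h6, map_neg]
  rfl

end Cfsg.Agent.RuC
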