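import Cfsg.Agent.RuC.Short

set_option autoImplicit false
set_option linter.style.haveILetI false

/-! The bound for the order, and the certificate. -/

namespace Cfsg.Agent.RuC

open Cfsg.Spor Cfsg.Agent.CGT Matrix Finset

def Fix (E : List (List Z)) : Subgroup fourRu where
  carrier := {g | ∀ v : ruLattice, (∃ l ∈ E, (v : RuVec) = vec l) → (g : Equiv.Perm ruLattice) v = v}
  one_mem' := fun _ _ => rfl
  mul_mem' := fun {g h} hg hh v hv => by
    change (g : Equiv.Perm ruLattice) ((h : Equiv.Perm ruLattice) v) = v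
    rw [hh v hv, hg v hv]
  inv_mem' := fun {g} hg v hv => Equiv.Perm.inv_eq_iff_eq.2 (hg v hv).symm

noncomputable def rowOf (l : List Z) : ℕ := List.rec 0 (fun z _ ih => Nat.add (cd (star z)) (Nat.mul 5 ih)) l

theorem cd_lt (z : Z) : cd z < 5 := by unfold cd; omega

theorem dg_rowOf {T : FT} (hq : T.q = 5) (l : List Z) (c : ℕ) : T.dg (rowOf l) c = cd (star (nth 0 l c)) := by
  induction l generalizing c with
  | nil => simp [FT.dg, rowOf, nth_eq, cd]
  | cons z l ih =>
    have h : rowOf (z :: l) = cd (star z) + 5 * rowOf l := rfl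
    have := cd_lt (star z)
    rcases c with _ | c
    · rw [FT.dg_zero, hq, h]; change _ = cd (star z); omega
    · rw [FT.dg_succ, hq, h, show (cd (star z) + 5 * rowOf l) / 5 = rowOf l by omega, ih]; rfl

theorem ip_vec {l f : List Z} (h : f.length = 28) : ip (vec l) (vec f) = dotP l (f.map star) := by
  rw [dotP_eq, List.length_map, h, ← sum_co, ip, dotProduct]
  refine sum_congr rfl fun p _ => ?_
  rw [nth_eq _ (f.map star), ← star_zero Z, List.getD_map, ← nth_eq, star_zero]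
  rfl

/-- The masks of the points with the right inner products. -/
noncomputable def prof (T : FT) (P : List (List ℕ)) (N : ℕ) (l : List Z) (k : List ℕ → Bool) (F : List (List Z))
    (Ms : List ℕ) : Bool :=
  List.rec (motive := fun _ => List ℕ → Bool) k
    (fun f _ ih Ms => T.dot P (fun D => Nat.ble D.length 5 && (ohB N D && lt' (cd (dotP l (f.map star))) fun c =>
      buildL 5 (fun a => Nat.land (nth 0 Ms a) (nth 0 D (T.mu a c))) ih)) (rowOf f) [msk N]) F Ms

noncomputable def cat (s : ℕ) (Ms : List ℕ) : ℕ :=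
  Nat.rec 0 (fun a ih => Nat.lor (Nat.shiftLeft (nth 0 Ms (Nat.succ a)) (Nat.mul s a)) ih) 4

theorem cat_bit {s n a : ℕ} {Ms : List ℕ} (ha : a < 4) (h : (nth 0 Ms (a + 1)).testBit n = true) :
    (cat s Ms).testBit (n + s * a) = true := by
  unfold cat
  generalize 4 = m at ha
  induction m with
  | zero => omega
  | succ m ih =>
    simp only [lor_eq, Nat.testBit_or, Bool.or_eq_true] at ih ⊢
    rcases Nat.lt_succ_iff_lt_or_eq.1 ha with e | rfl
    · exact Or.inr (ih e)
    · exact Or.inl (by simpa [Nat.testBit_shiftLeft] using h)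

noncomputable def stepB (T : FT) (P : List (List ℕ)) (N : ℕ) (F : List (List Z)) (l : List Z) (n : ℕ) : Bool :=
  prof T P N l (fun Ms => lt' (cat N Ms) fun O => Nat.beq (Nat.shiftRight O (2 ^ (11 + 3))) 0 &&
    Nat.ble (popc 11 O) n) F (List.replicate 5 (msk N))

noncomputable def bndB (T : FT) (P : List (List ℕ)) (N : ℕ) (todo F : List (List Z)) (ns : List ℕ) : Bool :=
  List.rec (motive := fun _ => List (List Z) → List ℕ → Bool) (fun _ ns => Nat.ble 1 ns.prod)
    (fun l _ ih F ns => Nat.blt 0 ns.length && (stepB T P N F l (nth 0 ns 0) &&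
      ih (Bool.rec (l :: F) F (Nat.ble 16 F.length)) ns.tail)) todo F ns

/-- A short vector given by a list. -/
def Sv (l : List Z) : Prop := vec l ∈ ruLattice ∧ ruNorm (vec l) = 16 ∧ l.length = 28

noncomputable def svB (Bp : List Z) (todo C : List (List Z)) : Bool :=
  allLt todo.length fun k => isC Bp (nth [] C k) (nth [] todo k) &&
    decide (dotP (nth [] todo k) ((nth [] todo k).map star) = 16)

theorem svB_sound {B : List (List Z)} {Bp : List Z} (h : rowsB B Bp = true) (hB : ∀ l ∈ B, vec l ∈ ruLattice)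
    {todo C : List (List Z)} (hs : svB Bp todo C = true) : ∀ l ∈ todo, Sv l := fun l hl => by
  obtain ⟨k, hk, rfl⟩ := List.getElem_of_mem hl
  have h1 := allLt_iff.1 hs k hk
  rw [Bool.and_eq_true, decide_eq_true_eq, nth_eq _ todo, List.getD_eq_getElem _ _ hk] at h1
  have h2 : todo[k].length = 28 := by
    have := h1.1
    simp only [isC, Bool.and_eq_true, Nat.beq_eq] at this
    exact this.1
  refine ⟨isC_sound h h1.1 ▸ comb_mem hB _, ?_, h2⟩
  exact Int.cast_injective (α := Z) ((ip_self _).symm.trans ((ip_vec h2).trans h1.2))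

variable {T : FT} {P : List (List ℕ)} {N : ℕ} (hT : T.OK e5) (hq : T.q = 5) (hP : T.ptsB 28 N P = true)
include hT hq hP

theorem prof_sound {l : List Z} {k : List ℕ → Bool} {F : List (List Z)} (hF : ∀ f ∈ F, f.length = 28) {Ms : List ℕ}
    (h : prof T P N l k F Ms = true) : ∃ Ms', k Ms' = true ∧ ∀ n < N, ∀ a < 5, ∀ w, pt P n = e5 a • red w →
      (∀ f ∈ F, ip w (vec f) = ip (vec l) (vec f)) → (nth 0 Ms a).testBit n = true →
      (nth 0 Ms' a).testBit n = true := by
  obtain ⟨p1, -, -⟩ := FT.ptsB_sound (σ := σ) hT hP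
  induction F generalizing Ms with
  | nil => exact ⟨Ms, h, fun _ _ _ _ _ _ _ h => h⟩
  | cons f F ih =>
    obtain ⟨D, h1, h2⟩ := FT.dot_sound hT h
    simp only [Bool.and_eq_true, Nat.ble_eq, lt'_eq] at h1
    obtain ⟨M1, h3, h4⟩ := buildL_sound h1.2.2
    obtain ⟨M2, h5, h6⟩ := ih (fun g hg => hF g (by simp [hg])) h3
    refine ⟨M2, h5, fun n hn a ha w hw hi hb => h6 n hn a ha w hw (fun g hg => hi g (by simp [hg])) ?_⟩
    have h7 := h2 n (fun c => if h : c < 28 then pt P n (σ.symm ⟨c, h⟩) else 0) 0 (fun c hc => by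
      rw [p1.1] at hc
      simpa [hc] using p1.2 (σ.symm ⟨c, hc⟩) n) (FT.snd_full hT _ _)
    obtain ⟨h8, h9⟩ := (ohB_sound h1.2.1).2 n hn
    have h10 := h7 _ (by omega) h9
    have h11 := hT.mul a (by omega) (cd (dotP l (f.map star))) (hq ▸ cd_lt _)
    rw [h4 a ha, land_eq, Nat.testBit_and, hb, ← hT.inj _ (by omega) _ h11.1 (h10.trans ?_), h9]
    · rfl
    rw [h11.2, e5_cd, ← ip_vec (hF f (by simp)), ← hi f (by simp), zero_add, p1.1, ← sum_co, ip, dotProduct,
      map_sum, mul_sum]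
    refine sum_congr rfl fun p _ => ?_
    rw [dg_rowOf hq, e5_cd, dif_pos (σ p).2, Fin.eta, Equiv.symm_apply_apply, hw, map_mul]
    change φ (star (vec f p)) * (e5 a * φ (w p)) = e5 a * (φ (w p) * φ (star (vec f p)))
    ring

theorem step (hC : Cl P N) {E F : List (List Z)} {l : List Z} {n m : ℕ} (hFE : ∀ f ∈ F, f ∈ E)
    (hF : ∀ f ∈ F, Sv f) (hl : Sv l) (h : stepB T P N F l n = true) (hb : Bd (Fix (l :: E)) m) :
    Bd (Fix E) (n * m) := by
  obtain ⟨Ms, h1, h2⟩ := prof_sound hT hq hP (fun f hf => (hF f hf).2.2) h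
  rw [lt'_eq, Bool.and_eq_true, Nat.ble_eq, Nat.beq_eq] at h1
  obtain ⟨-, p2, -⟩ := FT.ptsB_sound (σ := σ) hT hP
  have hn : ∀ g : fourRu, ruNorm (ac g ⟨_, hl.1⟩) = 16 := fun g => (g.2.2.2 _).trans hl.2.1
  refine Bd.rel (d := 11) h1.1 h1.2
    (fun g i => i % N < N ∧ pt P (i % N) = e5 (i / N + 1) • red (ac g ⟨_, hl.1⟩))
    (fun g hg => ?_) (fun g hg g' hg' i a b => ?_) hb
  · obtain ⟨n, h3, a, h4, h5⟩ := hC.pt ((g : Equiv.Perm ruLattice) ⟨_, hl.1⟩).2 (hn g)
    have h6 := h2 n h3 a h4 _ h5 (fun f hf => by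
      have := ip_ac g ⟨_, hl.1⟩ ⟨_, (hF f hf).1⟩
      rwa [ac, ac, hg ⟨_, (hF f hf).1⟩ ⟨f, hFE f hf, rfl⟩] at this) (by
      rw [nth_eq, List.getD_eq_getElem _ _ (by simpa using h4), List.getElem_replicate, msk_eq,
        Nat.testBit_two_pow_sub_one, decide_eq_true h3])
    have h7 : a ≠ 0 := fun e => p2 n h3 (by rw [← pt, h5, e, hT.zero, zero_smul])
    obtain ⟨a, rfl⟩ := Nat.exists_eq_succ_of_ne_zero h7
    refine ⟨n + N * a, cat_bit (by omega) h6, ?_⟩
    rwa [Nat.add_mul_mod_self_left, Nat.add_mul_div_left _ _ (by omega), Nat.mod_eq_of_lt h3, Nat.div_eq_of_lt h3,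
      zero_add, and_iff_right h3]
  · have h3 : e5 (i / N + 1) ≠ 0 := fun e => p2 _ a.1 (by rw [← pt, a.2, e, zero_smul])
    have h4 := hC.inj ((g : Equiv.Perm ruLattice) ⟨_, hl.1⟩).2 (hn g) ((g' : Equiv.Perm ruLattice) ⟨_, hl.1⟩).2
      (hn g') (smul_right_injective _ h3 (a.2.symm.trans b.2))
    rintro ⟨v, hv⟩ ⟨f, hf, e⟩
    rcases List.mem_cons.1 hf with rfl | hf
    · obtain rfl : v = vec f := e
      exact Equiv.Perm.inv_eq_iff_eq.2 (Subtype.ext h4.symm)
    · exact (Fix E).mul_mem ((Fix E).inv_mem hg) hg' _ ⟨f, hf, e⟩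

theorem bndB_sound (hC : Cl P N) {todo E F : List (List Z)} {ns : List ℕ} (hFE : ∀ f ∈ F, f ∈ E)
    (hF : ∀ f ∈ F, Sv f) (ht : ∀ l ∈ todo, Sv l) (h : bndB T P N todo F ns = true)
    (h1 : ∀ g ∈ Fix E, g ∈ Fix todo → g = 1) : Bd (Fix E) ns.prod := by
  induction todo generalizing E F ns with
  | nil =>
    have h2 := Bd.bot.mono (K := Fix E) fun g hg => h1 g hg fun v hv => by simp at hv
    exact ⟨h2.1, h2.2.trans (Nat.le_of_ble_eq_true h)⟩
  | cons l todo ih =>
    rcases ns with _ | ⟨n, ns⟩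
    · exact absurd h Bool.false_ne_true
    have h' : (stepB T P N F l n && bndB T P N todo (Bool.rec (l :: F) F (Nat.ble 16 F.length)) ns) = true := h
    rw [Bool.and_eq_true] at h'
    have hl := ht l (by simp)
    refine step hT hq hP hC hFE hF hl h'.1 (ih (fun f hf => ?_) (fun f hf => ?_)
      (fun f hf => ht f (by simp [hf])) h'.2 fun g a b => h1 g (fun v ⟨f, hf, e⟩ => a v ⟨f, by simp [hf], e⟩)
        fun v ⟨f, hf, e⟩ => ?_)
    · cases e : Nat.ble 16 F.length <;> rw [e] at hf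
      · exact List.cons_subset_cons l hFE hf
      · exact List.mem_cons_of_mem _ (hFE f hf)
    · cases e : Nat.ble 16 F.length <;> rw [e] at hf
      · exact List.forall_mem_cons.2 ⟨hl, hF⟩ f hf
      · exact hF f hf
    · rcases List.mem_cons.1 hf with rfl | hf
      · exact a v ⟨f, by simp, e⟩
      · exact b v ⟨f, hf, e⟩

end Cfsg.Agent.RuC
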