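import Cfsg.Agent.RuC.Chk
import Cfsg.Agent.RuC.Gen
import Cfsg.Agent.RuC.Tabs

set_option autoImplicit false
set_option Elab.async false
set_option maxRecDepth 100000
set_option linter.all false

namespace Cfsg.Agent.RuC
open Cfsg.Agent.CGT

noncomputable def Lb : List (List Z) := [[⟨4, 0⟩, 0, 0, 0, 0, 0, 0, 0, 0, 0, 0, 0, 0, 0, 0, 0, 0, 0, 0, 0, 0, 0, 0, 0, 0, 0, 0, 0],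
  [0, 0, ⟨1, 0⟩, ⟨0, 1⟩, 0, 0, ⟨0, -1⟩, ⟨0, -1⟩, 0, ⟨0, 1⟩, 0, ⟨-1, 0⟩, ⟨0, -1⟩, 0, 0, ⟨1, 0⟩, 0, ⟨-1, 0⟩, 0, ⟨1, 0⟩, ⟨0, -1⟩, ⟨0, 1⟩, ⟨1, 0⟩, ⟨1, 0⟩, 0, ⟨1, 0⟩, ⟨0, 1⟩, 0],
  [⟨0, -1⟩, ⟨0, -1⟩, 0, 0, 0, 0, ⟨0, 1⟩, ⟨0, -1⟩, 0, ⟨0, 1⟩, 0, ⟨-1, 0⟩, 0, ⟨0, -1⟩, ⟨0, 1⟩, 0, 0, ⟨-1, 0⟩, 0, ⟨1, 0⟩, ⟨0, -1⟩, ⟨-1, 0⟩, ⟨-1, 0⟩, ⟨0, 1⟩, 0, ⟨0, -1⟩, ⟨1, 0⟩, 0],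
  [⟨0, -1⟩, ⟨0, -1⟩, 0, 0, 0, 0, ⟨0, -1⟩, ⟨0, 1⟩, 0, ⟨0, 1⟩, 0, ⟨-1, 0⟩, 0, ⟨0, 1⟩, ⟨0, -1⟩, 0, 0, ⟨1, 0⟩, 0, ⟨-1, 0⟩, ⟨0, 1⟩, ⟨1, 0⟩, ⟨1, 0⟩, ⟨0, -1⟩, 0, ⟨0, -1⟩, ⟨1, 0⟩, 0],
  [⟨1, 0⟩, ⟨-1, 0⟩, 0, 0, 0, 0, ⟨-1, 0⟩, ⟨-1, 0⟩, 0, ⟨0, -1⟩, 0, ⟨-1, 0⟩, 0, ⟨1, 0⟩, ⟨-1, 0⟩, 0, ⟨0, 1⟩, 0, ⟨1, 0⟩, 0, ⟨0, -1⟩, ⟨1, 0⟩, ⟨0, -1⟩, ⟨-1, 0⟩, ⟨0, -1⟩, 0, 0, ⟨0, 1⟩],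
  [⟨0, 1⟩, ⟨0, -1⟩, ⟨-1, 0⟩, ⟨-1, 0⟩, ⟨0, -1⟩, 0, 0, ⟨0, 1⟩, ⟨0, 1⟩, ⟨0, -1⟩, 0, 0, ⟨1, 0⟩, ⟨0, -1⟩, 0, 0, ⟨0, 1⟩, 0, ⟨0, 1⟩, 0, 0, ⟨1, 0⟩, ⟨-1, 0⟩, 0, ⟨0, -1⟩, 0, ⟨1, 0⟩, 0],
  [⟨-1, 0⟩, ⟨0, 1⟩, ⟨-1, 0⟩, ⟨0, -1⟩, ⟨0, 1⟩, 0, 0, ⟨0, 1⟩, 0, 0, ⟨0, 1⟩, ⟨-1, 0⟩, 0, 0, ⟨1, 0⟩, ⟨-1, 0⟩, ⟨1, 0⟩, 0, ⟨1, 0⟩, 0, ⟨-1, 0⟩, 0, 0, ⟨0, 1⟩, 0, ⟨-1, 0⟩, 0, ⟨-1, 0⟩],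
  [0, 0, ⟨0, -1⟩, ⟨0, 1⟩, ⟨0, -1⟩, 0, ⟨0, 1⟩, 0, 0, ⟨0, -1⟩, ⟨0, 1⟩, 0, 0, ⟨0, 1⟩, 0, ⟨0, -1⟩, ⟨0, 1⟩, ⟨0, 1⟩, ⟨0, 1⟩, ⟨0, 1⟩, ⟨0, -1⟩, 0, 0, ⟨0, 1⟩, ⟨0, -1⟩, ⟨0, 1⟩, 0, 0],
  [0, 0, ⟨0, 1⟩, ⟨1, 0⟩, 0, 0, ⟨0, 1⟩, ⟨0, 1⟩, ⟨1, 0⟩, 0, ⟨-1, 0⟩, 0, 0, ⟨1, 0⟩, ⟨-1, 0⟩, 0, ⟨0, -1⟩, 0, ⟨-1, 0⟩, 0, ⟨0, 1⟩, ⟨0, -1⟩, ⟨0, -1⟩, ⟨0, 1⟩, ⟨0, -1⟩, 0, 0, ⟨0, -1⟩],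
  [0, ⟨1, 0⟩, ⟨1, 0⟩, 0, 0, ⟨1, 0⟩, 0, ⟨1, 0⟩, ⟨0, 1⟩, ⟨1, 0⟩, ⟨0, -1⟩, ⟨1, 0⟩, ⟨-1, 0⟩, 0, 0, ⟨1, 0⟩, 0, 0, ⟨0, 1⟩, ⟨-1, 0⟩, 0, 0, ⟨0, 1⟩, ⟨0, 1⟩, 0, ⟨0, -1⟩, 0, ⟨1, 0⟩],
  [0, 0, 0, 0, ⟨0, 1⟩, ⟨-1, 0⟩, ⟨0, -1⟩, ⟨0, 1⟩, ⟨0, 1⟩, ⟨0, 1⟩, ⟨0, -1⟩, ⟨-1, 0⟩, ⟨0, -1⟩, ⟨-1, 0⟩, ⟨-1, 0⟩, ⟨1, 0⟩, 0, 0, 0, 0, 0, 0, 0, 0, ⟨-1, 0⟩, ⟨1, 0⟩, ⟨0, -1⟩, ⟨-1, 0⟩],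
  [0, ⟨-1, 0⟩, ⟨0, -1⟩, 0, 0, 0, ⟨0, -1⟩, ⟨1, 0⟩, 0, 0, ⟨1, 0⟩, ⟨-1, 0⟩, ⟨0, 1⟩, 0, ⟨0, 1⟩, 0, ⟨-1, 0⟩, 0, 0, ⟨0, -1⟩, ⟨-1, 0⟩, 0, ⟨0, 1⟩, 0, ⟨1, 0⟩, ⟨0, 1⟩, ⟨0, -1⟩, ⟨1, 0⟩]]
noncomputable def Cb : List (List Z) := [[0, ⟨-2, 3⟩, 0, 0, ⟨1, 2⟩, ⟨1, 4⟩, ⟨-1, 0⟩, 0, ⟨-1, 0⟩, ⟨0, -2⟩, 0, ⟨0, -2⟩, ⟨-1, -2⟩, ⟨-1, -1⟩, ⟨1, 0⟩, ⟨2, 0⟩, 0, ⟨-1, -1⟩, ⟨1, 2⟩, 0, ⟨-1, 0⟩, ⟨-1, 1⟩, 0, ⟨1, -1⟩, ⟨1, 1⟩, 0, ⟨0, -1⟩, ⟨-2, 1⟩],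
  [⟨-1, 0⟩, ⟨0, -1⟩, ⟨0, 1⟩, 0, ⟨-1, -1⟩, ⟨-1, 0⟩, ⟨0, -1⟩, ⟨0, -1⟩, 0, 0, ⟨-1, 0⟩, ⟨0, 1⟩, ⟨1, 0⟩, ⟨1, 0⟩, ⟨-1, 0⟩, ⟨-1, 1⟩, ⟨0, 1⟩, ⟨0, 1⟩, ⟨-1, 0⟩, 0, 0, 0, ⟨1, 0⟩, ⟨-1, -1⟩, 0, ⟨0, 1⟩, 0, 0],
  [⟨-1, 0⟩, 0, 0, 0, 0, ⟨0, -1⟩, ⟨1, 0⟩, ⟨0, -1⟩, 0, 0, 0, 0, ⟨0, 1⟩, ⟨0, 1⟩, 0, ⟨0, -1⟩, 0, ⟨0, 1⟩, 0, 0, ⟨1, 0⟩, ⟨0, -1⟩, ⟨1, 0⟩, 0, ⟨-1, 0⟩, ⟨-1, 0⟩, 0, 0],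
  [⟨-1, 1⟩, ⟨1, 0⟩, ⟨1, 0⟩, 0, ⟨-1, 0⟩, ⟨1, -1⟩, ⟨0, -1⟩, ⟨0, -1⟩, 0, 0, ⟨0, 1⟩, ⟨0, 1⟩, ⟨-1, 1⟩, ⟨0, 1⟩, ⟨1, 0⟩, ⟨0, -1⟩, ⟨1, -1⟩, ⟨1, 0⟩, ⟨0, 1⟩, ⟨0, -1⟩, 0, ⟨0, 1⟩, ⟨2, 0⟩, ⟨-1, 0⟩, ⟨-1, 0⟩, ⟨-1, 0⟩, ⟨0, 1⟩, 0],
  [⟨2, -1⟩, ⟨-1, 2⟩, ⟨-1, 0⟩, ⟨-1, 0⟩, ⟨2, 1⟩, ⟨2, 3⟩, ⟨-1, 2⟩, ⟨0, 1⟩, 0, ⟨-1, -1⟩, ⟨0, -1⟩, ⟨0, -1⟩, ⟨-1, -1⟩, ⟨-1, -2⟩, ⟨-1, -1⟩, ⟨2, 0⟩, ⟨-1, 2⟩, ⟨-2, 0⟩, ⟨1, 1⟩, ⟨0, 1⟩, ⟨-1, 1⟩, ⟨1, 0⟩, ⟨-2, 0⟩, ⟨1, -1⟩, ⟨2, -1⟩, ⟨1, 0⟩, ⟨0, -2⟩, ⟨-1, 2⟩],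
  [⟨1, 1⟩, ⟨-3, 0⟩, ⟨-1, -1⟩, ⟨-1, 0⟩, ⟨-1, 2⟩, ⟨-2, 1⟩, 0, 0, 0, ⟨1, -2⟩, ⟨1, 0⟩, ⟨1, -1⟩, 0, ⟨1, 0⟩, 0, ⟨1, -1⟩, ⟨-1, -1⟩, ⟨1, -1⟩, ⟨0, 2⟩, ⟨-1, 0⟩, ⟨0, -1⟩, ⟨-1, -1⟩, 0, ⟨1, 1⟩, ⟨-1, 2⟩, 0, ⟨1, -1⟩, ⟨-2, 0⟩],
  [0, 0, ⟨0, 1⟩, ⟨0, 1⟩, ⟨1, -1⟩, ⟨-1, 0⟩, 0, ⟨0, 1⟩, ⟨0, -1⟩, 0, ⟨-1, 0⟩, 0, 0, 0, ⟨-1, 0⟩, 0, ⟨0, 1⟩, ⟨0, 1⟩, ⟨-1, 0⟩, 0, ⟨0, -1⟩, 0, 0, ⟨1, -1⟩, ⟨1, 0⟩, ⟨-1, 1⟩, 0, ⟨0, -1⟩],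
  [⟨1, 0⟩, ⟨-2, 1⟩, ⟨-1, 0⟩, ⟨-1, 0⟩, ⟨1, 1⟩, ⟨-1, 2⟩, ⟨-1, 1⟩, ⟨-1, 1⟩, 0, ⟨0, -2⟩, ⟨0, -1⟩, ⟨0, -1⟩, ⟨0, -1⟩, ⟨1, -1⟩, ⟨-1, -1⟩, ⟨1, 1⟩, ⟨-2, 1⟩, ⟨-1, 0⟩, 0, ⟨-1, 1⟩, ⟨-1, 0⟩, 0, ⟨-2, -1⟩, ⟨2, 0⟩, ⟨2, 1⟩, ⟨1, 1⟩, ⟨1, -1⟩, ⟨-1, 1⟩],
  [⟨-1, 1⟩, 0, ⟨1, -1⟩, ⟨1, 0⟩, ⟨-1, 1⟩, ⟨-1, -1⟩, ⟨1, -1⟩, ⟨0, -1⟩, 0, ⟨1, 0⟩, ⟨0, 1⟩, ⟨1, 0⟩, ⟨0, 1⟩, ⟨0, 1⟩, ⟨1, 1⟩, ⟨0, -1⟩, ⟨2, -2⟩, ⟨2, -1⟩, ⟨0, 1⟩, ⟨0, -1⟩, ⟨1, 0⟩, ⟨-1, 0⟩, ⟨2, 0⟩, ⟨0, 1⟩, ⟨-2, 1⟩, ⟨-1, -1⟩, ⟨0, 1⟩, ⟨0, -1⟩],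
  [⟨1, 2⟩, ⟨0, -1⟩, ⟨0, -2⟩, 0, ⟨1, 2⟩, 0, ⟨-2, -1⟩, ⟨-2, 0⟩, 0, ⟨0, 1⟩, 0, ⟨0, -2⟩, ⟨2, -1⟩, ⟨0, -1⟩, ⟨2, -1⟩, 0, ⟨-1, -3⟩, ⟨0, -2⟩, ⟨2, 0⟩, ⟨-1, -1⟩, ⟨1, -1⟩, 0, ⟨1, -3⟩, 0, ⟨0, 1⟩, ⟨-1, 1⟩, ⟨1, 1⟩, 0],
  [⟨-1, 2⟩, ⟨1, -1⟩, ⟨0, -1⟩, 0, ⟨-2, 1⟩, ⟨-1, -1⟩, ⟨1, -1⟩, ⟨1, 0⟩, 0, 0, ⟨1, 1⟩, ⟨1, 1⟩, ⟨-1, 2⟩, ⟨1, 2⟩, ⟨1, 0⟩, ⟨0, -1⟩, ⟨0, -2⟩, ⟨2, -1⟩, ⟨0, 1⟩, ⟨0, -1⟩, ⟨1, 0⟩, ⟨0, 1⟩, ⟨2, 1⟩, 0, ⟨-1, 1⟩, ⟨-1, -1⟩, ⟨1, 0⟩, ⟨-1, -1⟩],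
  [⟨1, 1⟩, 0, ⟨0, -1⟩, ⟨0, -1⟩, 0, ⟨0, 2⟩, ⟨-1, 1⟩, ⟨0, 2⟩, ⟨-1, 0⟩, 0, ⟨0, 1⟩, 0, ⟨-1, -1⟩, ⟨0, -1⟩, ⟨0, -1⟩, ⟨2, 1⟩, ⟨-1, 0⟩, 0, ⟨0, 1⟩, ⟨-1, 0⟩, ⟨-1, 0⟩, ⟨1, 1⟩, ⟨-2, -1⟩, ⟨0, -1⟩, ⟨2, -1⟩, ⟨2, 1⟩, ⟨1, -1⟩, ⟨-1, 1⟩],
  [0, ⟨-2, 3⟩, 0, 0, ⟨1, 2⟩, ⟨1, 4⟩, ⟨-1, 0⟩, 0, ⟨-1, 0⟩, ⟨0, -2⟩, 0, ⟨0, -2⟩, ⟨-1, -2⟩, ⟨-1, -1⟩, ⟨1, 0⟩, ⟨2, 0⟩, 0, ⟨-1, -1⟩, ⟨1, 2⟩, 0, ⟨-1, 0⟩, ⟨-1, 1⟩, 0, ⟨1, -1⟩, ⟨1, 1⟩, 0, ⟨0, -1⟩, ⟨-2, 1⟩],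
  [0, ⟨-1, 0⟩, ⟨1, 0⟩, 0, 0, ⟨0, 1⟩, 0, 0, 0, 0, 0, ⟨0, -1⟩, ⟨1, 0⟩, ⟨0, -1⟩, ⟨0, 1⟩, ⟨1, 0⟩, 0, 0, 0, 0, 0, ⟨0, -1⟩, 0, 0, ⟨0, -1⟩, 0, 0, 0],
  [0, ⟨1, -2⟩, ⟨-1, 0⟩, 0, ⟨0, -2⟩, ⟨0, -1⟩, ⟨1, 0⟩, 0, ⟨-1, -1⟩, ⟨1, 1⟩, ⟨-1, 1⟩, ⟨-1, 0⟩, ⟨1, 0⟩, ⟨0, 1⟩, ⟨-1, -1⟩, ⟨0, -1⟩, 0, ⟨0, 1⟩, 0, 0, ⟨1, -1⟩, ⟨0, -1⟩, 0, ⟨-2, -2⟩, ⟨-1, -1⟩, ⟨0, 2⟩, ⟨1, -1⟩, 0],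
  [0, ⟨1, 0⟩, 0, 0, ⟨0, 1⟩, ⟨0, -1⟩, 0, 0, ⟨1, 0⟩, ⟨-1, 1⟩, ⟨1, -1⟩, ⟨1, 1⟩, ⟨0, 1⟩, 0, 0, ⟨-1, 1⟩, 0, ⟨0, -1⟩, ⟨0, -1⟩, 0, ⟨0, 1⟩, ⟨1, 1⟩, 0, ⟨1, 1⟩, ⟨1, 0⟩, ⟨0, -2⟩, ⟨0, 1⟩, ⟨1, 0⟩],
  [0, ⟨2, -2⟩, ⟨-2, 0⟩, 0, ⟨0, -2⟩, ⟨2, -2⟩, ⟨2, 2⟩, ⟨4, 0⟩, ⟨-1, -1⟩, ⟨1, 1⟩, ⟨1, 1⟩, ⟨-1, 1⟩, ⟨-4, 2⟩, ⟨-1, 4⟩, ⟨-1, -2⟩, ⟨1, -3⟩, 0, ⟨0, 1⟩, 0, 0, ⟨1, 0⟩, ⟨2, 0⟩, ⟨0, 2⟩, ⟨-2, -2⟩, ⟨-1, -2⟩, 0, ⟨1, -1⟩, ⟨-2, 0⟩],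
  [⟨0, -2⟩, ⟨-1, 1⟩, ⟨-1, 0⟩, 0, ⟨3, 0⟩, ⟨1, -1⟩, ⟨-1, -2⟩, ⟨-2, -2⟩, ⟨0, 1⟩, ⟨1, 1⟩, ⟨-1, -1⟩, ⟨-1, -2⟩, ⟨2, -2⟩, ⟨-2, -1⟩, ⟨1, 0⟩, ⟨-2, -1⟩, ⟨0, -2⟩, ⟨-2, -1⟩, ⟨3, -2⟩, ⟨0, -2⟩, ⟨0, -1⟩, ⟨-1, 0⟩, ⟨2, -2⟩, ⟨-1, 1⟩, ⟨-1, 1⟩, ⟨-2, 0⟩, ⟨-3, 2⟩, ⟨2, 1⟩],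
  [0, 0, 0, 0, 0, 0, ⟨0, -1⟩, 0, 0, 0, 0, 0, 0, 0, 0, 0, 0, 0, 0, 0, 0, 0, 0, 0, 0, 0, 0, 0],
  [⟨2, 0⟩, ⟨-1, -1⟩, ⟨-1, 0⟩, 0, ⟨1, 0⟩, ⟨-1, 1⟩, ⟨-1, -1⟩, 0, ⟨-1, 0⟩, 0, 0, ⟨0, -1⟩, ⟨2, 0⟩, ⟨1, -1⟩, ⟨-1, -1⟩, ⟨-1, 0⟩, ⟨-2, 0⟩, ⟨-1, -1⟩, ⟨1, 0⟩, ⟨-2, 0⟩, ⟨-1, -1⟩, ⟨1, 0⟩, ⟨0, -2⟩, ⟨-1, -1⟩, ⟨1, 0⟩, ⟨0, 2⟩, ⟨0, -1⟩, ⟨0, 1⟩],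
  [⟨2, 2⟩, ⟨-2, 2⟩, ⟨-2, 0⟩, 0, ⟨0, 4⟩, ⟨-2, 2⟩, ⟨-1, 0⟩, 0, ⟨1, 1⟩, ⟨-1, -3⟩, ⟨3, -1⟩, ⟨0, -1⟩, ⟨0, 2⟩, ⟨3, 0⟩, ⟨0, -1⟩, ⟨-1, -1⟩, ⟨-4, 0⟩, ⟨0, -3⟩, ⟨2, 0⟩, ⟨-2, 2⟩, ⟨-1, 0⟩, 0, ⟨0, -2⟩, ⟨2, 2⟩, ⟨2, 3⟩, 0, ⟨1, -1⟩, ⟨-2, 2⟩],
  [⟨2, 4⟩, ⟨-2, 0⟩, ⟨0, -2⟩, 0, ⟨0, 4⟩, ⟨-2, 2⟩, ⟨-3, -1⟩, ⟨-2, 0⟩, 0, ⟨0, -2⟩, ⟨2, 0⟩, ⟨1, -2⟩, ⟨2, 0⟩, ⟨2, -1⟩, ⟨1, -1⟩, 0, ⟨-2, -2⟩, ⟨1, -3⟩, ⟨2, 2⟩, ⟨-2, 0⟩, ⟨0, -1⟩, 0, ⟨0, -4⟩, ⟨1, 1⟩, ⟨1, 3⟩, ⟨0, 2⟩, ⟨2, 0⟩, ⟨-2, 0⟩],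
  [⟨0, 2⟩, ⟨2, 2⟩, ⟨1, -1⟩, 0, ⟨-1, 1⟩, ⟨2, 2⟩, ⟨-1, 2⟩, ⟨0, 2⟩, 0, ⟨-3, -1⟩, ⟨1, 1⟩, ⟨-1, 0⟩, ⟨-2, 0⟩, 0, ⟨1, 0⟩, ⟨2, 0⟩, 0, ⟨1, 0⟩, ⟨1, 1⟩, ⟨0, 2⟩, ⟨0, 2⟩, ⟨1, 1⟩, ⟨-2, 0⟩, ⟨1, -1⟩, ⟨2, -1⟩, ⟨2, 0⟩, ⟨2, 0⟩, ⟨-1, 1⟩],
  [0, 0, 0, 0, 0, 0, 0, 0, 0, 0, 0, ⟨0, -1⟩, 0, 0, 0, 0, 0, 0, 0, 0, 0, 0, 0, 0, 0, 0, 0, 0],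
  [0, 0, ⟨-1, 0⟩, 0, ⟨0, -1⟩, 0, ⟨2, 0⟩, ⟨2, 0⟩, ⟨-1, 0⟩, ⟨1, -1⟩, ⟨1, 1⟩, ⟨-1, 0⟩, ⟨-1, 1⟩, ⟨0, 2⟩, ⟨-1, 0⟩, ⟨0, -3⟩, 0, ⟨1, 0⟩, ⟨0, 1⟩, 0, ⟨0, -1⟩, ⟨-1, 0⟩, ⟨0, 2⟩, ⟨-1, -1⟩, ⟨-2, 0⟩, 0, ⟨0, -1⟩, ⟨-1, 0⟩],
  [0, 0, 0, 0, 0, 0, 0, 0, 0, 0, 0, 0, 0, ⟨0, -1⟩, 0, 0, 0, 0, 0, 0, 0, 0, 0, 0, 0, 0, 0, 0],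
  [0, 0, 0, 0, 0, 0, 0, 0, 0, 0, 0, 0, 0, 0, 0, 0, 0, 0, 0, 0, ⟨0, -1⟩, 0, 0, 0, 0, 0, 0, 0],
  [0, 0, ⟨1, 0⟩, 0, ⟨0, 1⟩, ⟨-2, 0⟩, ⟨-1, -1⟩, ⟨-2, 0⟩, ⟨1, 0⟩, ⟨-1, 1⟩, ⟨-1, -1⟩, ⟨1, 0⟩, ⟨3, -1⟩, ⟨1, -2⟩, ⟨0, 1⟩, ⟨-2, 3⟩, 0, ⟨0, -1⟩, ⟨0, -1⟩, 0, 0, ⟨-1, 0⟩, ⟨0, -2⟩, ⟨1, 1⟩, ⟨1, 1⟩, 0, ⟨0, 1⟩, ⟨1, 0⟩],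
  [⟨-2, -2⟩, ⟨0, 2⟩, ⟨1, 3⟩, ⟨0, 4⟩, ⟨1, -1⟩, 0, ⟨1, 0⟩, 0, ⟨0, -2⟩, ⟨-1, 1⟩, ⟨-3, -1⟩, ⟨-1, -1⟩, ⟨2, -2⟩, ⟨-2, -1⟩, ⟨-2, 3⟩, 0, ⟨4, 4⟩, ⟨1, 3⟩, ⟨-1, -1⟩, ⟨2, 2⟩, ⟨2, 1⟩, ⟨-3, -3⟩, ⟨0, 2⟩, ⟨0, -2⟩, ⟨-1, -2⟩, 0, ⟨-2, 0⟩, ⟨3, -1⟩],
  [0, 0, 0, 0, 0, 0, 0, 0, 0, 0, 0, 0, 0, 0, 0, 0, 0, ⟨0, -1⟩, 0, 0, 0, 0, 0, 0, 0, 0, 0, 0],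
  [⟨4, 0⟩, ⟨1, -1⟩, ⟨-2, -1⟩, 0, ⟨2, -1⟩, ⟨3, 1⟩, ⟨0, 2⟩, ⟨2, 2⟩, ⟨-1, 0⟩, ⟨-1, 1⟩, ⟨1, 1⟩, ⟨-1, 0⟩, ⟨-2, 0⟩, ⟨-1, -1⟩, ⟨-1, -2⟩, ⟨1, -2⟩, ⟨-2, 0⟩, ⟨-1, -1⟩, ⟨2, 1⟩, 0, ⟨-1, -1⟩, ⟨2, 1⟩, ⟨-2, 0⟩, ⟨-2, -2⟩, ⟨2, -2⟩, ⟨2, 0⟩, ⟨0, -3⟩, ⟨-1, 2⟩],
  [0, ⟨-1, -1⟩, ⟨0, 1⟩, 0, ⟨0, -1⟩, ⟨-3, 1⟩, ⟨1, 0⟩, 0, ⟨0, -1⟩, 0, ⟨-2, 0⟩, ⟨1, 0⟩, ⟨2, 0⟩, ⟨2, -1⟩, ⟨-2, 0⟩, ⟨0, 1⟩, ⟨0, 2⟩, ⟨0, 1⟩, ⟨-2, 1⟩, 0, ⟨0, -1⟩, ⟨0, -1⟩, 0, ⟨0, -2⟩, ⟨1, 0⟩, ⟨0, 2⟩, ⟨1, -2⟩, ⟨-1, 0⟩],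
  [0, 0, ⟨0, -1⟩, 0, ⟨-1, 2⟩, 0, ⟨-1, 0⟩, 0, ⟨1, 0⟩, 0, ⟨2, 0⟩, ⟨1, 0⟩, ⟨-1, -1⟩, ⟨-1, 0⟩, ⟨2, 0⟩, ⟨0, 1⟩, ⟨0, -2⟩, ⟨0, -2⟩, ⟨1, 0⟩, 0, ⟨0, 1⟩, ⟨0, 1⟩, 0, ⟨1, 2⟩, ⟨0, 1⟩, ⟨0, -2⟩, ⟨0, 1⟩, ⟨0, -1⟩],
  [0, 0, ⟨0, 1⟩, 0, ⟨-1, 0⟩, 0, ⟨-1, 0⟩, 0, ⟨1, 0⟩, 0, 0, ⟨0, 1⟩, ⟨-1, -1⟩, 0, 0, ⟨0, 1⟩, 0, 0, ⟨-1, 0⟩, 0, 0, ⟨0, 1⟩, 0, ⟨0, 1⟩, ⟨0, 1⟩, 0, ⟨0, 1⟩, ⟨0, -1⟩],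
  [0, 0, ⟨1, 1⟩, 0, ⟨1, -1⟩, ⟨0, 2⟩, 0, 0, ⟨-1, -1⟩, 0, ⟨-2, 0⟩, 0, 0, ⟨0, -1⟩, ⟨-1, -1⟩, ⟨1, 1⟩, ⟨0, 2⟩, ⟨-1, 1⟩, ⟨-1, 1⟩, 0, ⟨-1, 0⟩, ⟨1, 1⟩, 0, ⟨0, -3⟩, ⟨2, -2⟩, ⟨0, 2⟩, ⟨1, -1⟩, ⟨-1, 1⟩],
  [0, 0, 0, 0, 0, 0, 0, 0, 0, 0, 0, 0, 0, 0, 0, 0, 0, 0, 0, 0, 0, 0, 0, ⟨0, -1⟩, 0, 0, 0, 0],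
  [0, ⟨-1, -2⟩, ⟨1, 1⟩, 0, ⟨-1, 0⟩, ⟨-3, 0⟩, 0, 0, ⟨0, -1⟩, ⟨1, 1⟩, ⟨-1, -1⟩, ⟨2, 1⟩, ⟨1, 0⟩, ⟨1, -1⟩, ⟨-1, 0⟩, ⟨1, 3⟩, ⟨0, 2⟩, ⟨0, 1⟩, ⟨-3, 0⟩, 0, 0, ⟨1, -1⟩, 0, ⟨1, 0⟩, ⟨1, -1⟩, 0, ⟨1, 0⟩, ⟨0, -1⟩],
  [0, ⟨1, 0⟩, ⟨-1, 0⟩, 0, 0, ⟨1, 0⟩, ⟨1, 1⟩, ⟨2, 0⟩, 0, 0, 0, 0, ⟨-2, 1⟩, ⟨-1, 1⟩, 0, ⟨2, -1⟩, 0, 0, 0, 0, ⟨1, 1⟩, ⟨1, 0⟩, ⟨0, 2⟩, ⟨0, -1⟩, ⟨0, -2⟩, ⟨0, -2⟩, 0, 0],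
  [0, ⟨-1, 0⟩, 0, 0, ⟨0, 1⟩, ⟨-1, 0⟩, ⟨0, 1⟩, 0, ⟨0, -1⟩, 0, 0, ⟨1, 0⟩, ⟨-1, 0⟩, 0, 0, ⟨1, 1⟩, 0, 0, ⟨0, 1⟩, 0, 0, 0, 0, ⟨1, 0⟩, ⟨1, 0⟩, 0, ⟨1, 0⟩, ⟨-1, 0⟩],
  [0, ⟨2, 1⟩, ⟨1, -2⟩, 0, ⟨1, -1⟩, ⟨4, 1⟩, ⟨-1, 2⟩, ⟨0, 2⟩, 0, ⟨-1, 1⟩, ⟨-1, 1⟩, ⟨-1, -1⟩, ⟨-1, -2⟩, ⟨-3, -1⟩, ⟨1, 0⟩, ⟨3, 0⟩, ⟨2, 0⟩, ⟨0, 1⟩, ⟨1, 1⟩, 0, ⟨0, 2⟩, ⟨1, 0⟩, ⟨-2, 0⟩, ⟨-1, -2⟩, ⟨0, -3⟩, ⟨2, 0⟩, 0, ⟨1, 1⟩]]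
noncomputable def nb : List ℕ := [16240, 7020, 320, 8, 2, 1, 1, 1, 1, 1, 1, 1, 1, 1, 1, 1, 1, 1, 1, 1, 1, 1, 1, 1, 1, 1, 1, 1, 1, 1, 1, 1, 1, 1, 1, 1, 1, 1, 1, 1]
theorem b_s : svB Bp (Lb ++ (List.range 28).map e4) Cb = true := by decide +kernel
theorem b_b : bndB T P 4060 (Lb ++ (List.range 28).map e4) [] nb = true := by decide +kernel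
theorem b_f : fnd P 1 1 0 (2 ^ 2304) = true := by decide +kernel
theorem b_g : Nat.beq (grow m_ns ((List.range 5).map fun j => [2 * j]) [4, 3, 2, 0, 1, 3, 4, 2, 0, 3, 1, 2, 4, 3, 0, 1, 2, 4, 3, 2, 0, 1, 0, 0] (2 ^ 2304)) (msk 4060) = true := by decide +kernel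
theorem b_sv : ∀ l ∈ Lb ++ (List.range 28).map e4, Sv l := svB_sound B_r (fromB_sound B_f) b_s
theorem hE : ∀ p, (Pi.single p 4 : Spor.RuVec) ∈ Spor.ruLattice := mem_of_sv b_sv
noncomputable def γ0 : ℕ → Spor.fourRu := T.gam e5 σ (ρ hE) As
noncomputable def γ : ℕ → Spor.Ru := qg (Subgroup.center Spor.fourRu) γ0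
theorem cert : ∃ φ, Cert φ γ 12 m_ns m_ts [0, 2, 4, 6, 8] c_ls := by
  obtain ⟨φ, h2, h3⟩ := model hT rfl P_ok cl hE m_v m_f (FT.act_sound hT (ρ hE) (FT.lets_gam hT As_inv (gens hE))
    (ns := m_ns) rfl (FT.gam_of_le (m := 5) rfl) m_v P_ok acts) b_f b_g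
  have M : Model φ γ0 12 m_ns m_ts := ⟨m_v, h2, m_ts_ok⟩
  have M' := M.quot (center_le_ker M h3 (c_sound M) c_cf)
  exact ⟨_, Cert.of_card M' (c_sound M') (card_le hT rfl P_ok cl b_sv b_b (m := 145926144000) (by decide +kernel))
    (by decide +kernel)⟩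
theorem card_eq : Nat.card Spor.Ru = 145926144000 := by
  obtain ⟨φ, C⟩ := cert
  exact C.card.trans (by decide +kernel)

end Cfsg.Agent.RuC
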