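import Cfsg.Agent.RuC.ChkD0

set_option autoImplicit false
set_option Elab.async false
set_option maxRecDepth 100000
set_option linter.all false

namespace Cfsg.Agent.RuC
open Cfsg.Agent.CGT

theorem k5 : allL l5 (chk1 DD P 4060) = true := by decide +kernel
theorem k6 : allL l6 (chk1 DD P 4060) = true := by decide +kernel
theorem k7 : allL l7 (chk1 DD P 4060) = true := by decide +kernel
theorem k8 : allL l8 (chk1 DD P 4060) = true := by decide +kernel
theorem k9 : allL l9 (chk1 DD P 4060) = true := by decide +kernel

end Cfsg.Agent.RuC
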