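import Cfsg.Agent.RuC.ChkD0

set_option autoImplicit false
set_option Elab.async false
set_option maxRecDepth 100000
set_option linter.all false

namespace Cfsg.Agent.RuC
open Cfsg.Agent.CGT

theorem k10 : allL l10 (chk1 DD P 4060) = true := by decide +kernel
theorem k11 : allL l11 (chk1 DD P 4060) = true := by decide +kernel
theorem k12 : allL l12 (chk1 DD P 4060) = true := by decide +kernel
theorem k13 : allL l13 (chk1 DD P 4060) = true := by decide +kernel
theorem k14 : allL l14 (chk1 DD P 4060) = true := by decide +kernel

end Cfsg.Agent.RuC
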