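import Cfsg.Agent.RuC.ChkD0

set_option autoImplicit false
set_option Elab.async false
set_option maxRecDepth 100000
set_option linter.all false

namespace Cfsg.Agent.RuC
open Cfsg.Agent.CGT

theorem k15 : allL l15 (chk1 DD P 4060) = true := by decide +kernel
theorem k16 : allL l16 (chk1 DD P 4060) = true := by decide +kernel
theorem k17 : allL l17 (chk1 DD P 4060) = true := by decide +kernel
theorem kl : DD.lowB (ll.map Prod.fst) = true := by decide +kernel
theorem kE : chkE P 4060 = true := by decide +kernel

end Cfsg.Agent.RuC
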