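import Cfsg.Agent.RuC.Chk_0
import Cfsg.Agent.RuC.Chk_1
import Cfsg.Agent.RuC.Chk_2
import Cfsg.Agent.RuC.Chk_3

set_option autoImplicit false
set_option Elab.async false
set_option maxRecDepth 100000
set_option linter.all false

namespace Cfsg.Agent.RuC
open Cfsg.Agent.CGT

theorem cl : Cl P 4060 := cls hT rfl P_ok D_ok D_rc kl
  (forall_mem_append' (allL_iff.1 k0) (forall_mem_append' (allL_iff.1 k1) (forall_mem_append' (allL_iff.1 k2) (forall_mem_append' (allL_iff.1 k3) (forall_mem_append' (allL_iff.1 k4) (forall_mem_append' (allL_iff.1 k5) (forall_mem_append' (allL_iff.1 k6) (forall_mem_append' (allL_iff.1 k7) (forall_mem_append' (allL_iff.1 k8) (forall_mem_append' (allL_iff.1 k9) (forall_mem_append' (allL_iff.1 k10) (forall_mem_append' (allL_iff.1 k11) (forall_mem_append' (allL_iff.1 k12) (forall_mem_append' (allL_iff.1 k13) (forall_mem_append' (allL_iff.1 k14) (forall_mem_append' (allL_iff.1 k15) (forall_mem_append' (allL_iff.1 k16) (allL_iff.1 k17)))))))))))))))))) D_0 kE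

end Cfsg.Agent.RuC
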