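import Cfsg.Agent.RuC.ChkD0

set_option autoImplicit false
set_option Elab.async false
set_option maxRecDepth 100000
set_option linter.all false

namespace Cfsg.Agent.RuC
open Cfsg.Agent.CGT

theorem k0 : allL l0 (chk1 DD P 4060) = true := by decide +kernel
theorem k1 : allL l1 (chk1 DD P 4060) = true := by decide +kernel
theorem k2 : allL l2 (chk1 DD P 4060) = true := by decide +kernel
theorem k3 : allL l3 (chk1 DD P 4060) = true := by decide +kernel
theorem k4 : allL l4 (chk1 DD P 4060) = true := by decide +kernel

end Cfsg.Agent.RuC
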