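import Cfsg.Agent.RuC.Aut

set_option autoImplicit false

/-! Short vectors: the combinatorial part. -/

namespace Cfsg.Agent.RuC

open Cfsg.Spor Cfsg.Agent.CGT Finset

/-! ### Thresholds -/

noncomputable def updK (P : ℕ) (Ts : List ℕ) (prev : ℕ) (k : List ℕ → Bool) : Bool :=
  List.rec (motive := fun _ => ℕ → (List ℕ → Bool) → Bool) (fun _ k => k [])
    (fun T _ ih prev k => lt' (Nat.lor T (Nat.land prev P)) fun T' => ih T fun r => k (T' :: r)) Ts prev k

def Th (n c s : ℕ) (Ts : List ℕ) : Prop := ∀ i, (nth 0 Ts i).testBit n = true → s + i + 1 ≤ c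

theorem updK_sound {P : ℕ} {Ts : List ℕ} {prev : ℕ} {k : List ℕ → Bool} (h : updK P Ts prev k = true) :
    ∃ Ts', k Ts' = true ∧ ∀ n c s, (prev.testBit n = true → s ≤ c) → Th n c s Ts →
      Th n (c + if P.testBit n then 1 else 0) s Ts' := by
  induction Ts generalizing prev k with
  | nil => exact ⟨[], h, fun n c s _ _ i hi => by simp [nth_eq] at hi⟩
  | cons T Ts ih =>
    obtain ⟨r, h1, h2⟩ := ih (prev := T) (k := fun r => k (Nat.lor T (Nat.land prev P) :: r)) h
    refine ⟨_, h1, fun n c s h3 h4 i hi => ?_⟩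
    rcases i with _ | i
    · have h5 : (Nat.lor T (Nat.land prev P)).testBit n = true := hi
      simp only [lor_eq, land_eq, Nat.testBit_or, Nat.testBit_and, Bool.or_eq_true, Bool.and_eq_true] at h5
      rcases h5 with h5 | h5
      · have := h4 0 h5
        omega
      · have := h3 h5.1
        rw [if_pos h5.2]; omega
    · have := h2 n c (s + 1) (h4 0) (fun i hi => by have := h4 (i + 1) hi; omega) i hi
      omega

noncomputable def thrK (SL : List ℕ) (full : ℕ) (cols Ts : List ℕ) (k : List ℕ → Bool) : Bool :=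
  List.rec (motive := fun _ => List ℕ → Bool) k
    (fun c _ ih Ts => lt' (xorSel SL c) fun P => updK P Ts full ih) cols Ts

theorem thrK_sound {SL : List ℕ} {full : ℕ} {cols Ts : List ℕ} {k : List ℕ → Bool}
    (h : thrK SL full cols Ts k = true) : ∃ Ts', k Ts' = true ∧ ∀ n c, Th n c 0 Ts →
      Th n (c + cols.countP fun a => (xorSel SL a).testBit n) 0 Ts' := by
  induction cols generalizing Ts with
  | nil => exact ⟨Ts, h, fun n c h => h⟩
  | cons a cols ih =>
    obtain ⟨T1, h1, h2⟩ := updK_sound (P := xorSel SL a) h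
    obtain ⟨T2, h3, h4⟩ := ih h1
    refine ⟨T2, h3, fun n c h5 => ?_⟩
    rw [List.countP_cons, add_comm (List.countP _ _), ← add_assoc]
    exact h4 n _ (h2 n c 0 (fun _ => Nat.zero_le _) h5)

noncomputable def orB (l : List ℕ) (acc : ℕ) : ℕ :=
  List.rec (motive := fun _ => ℕ → ℕ) (fun a => a)
    (fun a _ ih acc => (fun y => frc y (ih y)) (Nat.lor acc (Nat.shiftLeft 1 a))) l acc

theorem orB_cons (a : ℕ) (l : List ℕ) (acc : ℕ) : orB (a :: l) acc = orB l (acc ||| 2 ^ a) :=
  (frc_eq (Nat.lor acc (Nat.shiftLeft 1 a)) _).trans (congrArg (fun y => orB l (acc ||| y)) (Nat.one_shiftLeft a))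

theorem orB_iff {l : List ℕ} {n acc : ℕ} : (orB l acc).testBit n = true ↔ acc.testBit n = true ∨ n ∈ l := by
  induction l generalizing acc with
  | nil => exact (or_iff_left List.not_mem_nil).symm
  | cons a l ih =>
    rw [orB_cons, ih]
    simp only [Nat.testBit_or, Nat.testBit_two_pow, Bool.or_eq_true, decide_eq_true_eq, List.mem_cons, or_assoc,
      @eq_comm _ a n]

noncomputable def orBits (l : List ℕ) : ℕ := orB l 0

theorem orBits_iff {l : List ℕ} {n : ℕ} : (orBits l).testBit n = true ↔ n ∈ l := by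
  rw [orBits, orB_iff]; simp

/-- Extract the bits at the given positions. -/
noncomputable def exB (sup : List ℕ) (m : ℕ) : ℕ :=
  List.rec 0 (fun t _ ih => Nat.add (Nat.land (Nat.shiftRight m t) 1) (Nat.mul 2 ih)) sup

theorem exB_cons (t : ℕ) (sup : List ℕ) (m : ℕ) : exB (t :: sup) m = Nat.bit (m.testBit t) (exB sup m) := by
  have : exB (t :: sup) m = (m >>> t &&& 1) + 2 * exB sup m := rfl
  rw [this, Nat.bit_val, Nat.and_one_is_mod, Nat.toNat_testBit, Nat.shiftRight_eq_div_pow, add_comm]

theorem testBit_exB (sup : List ℕ) (m : ℕ) {i : ℕ} (hi : i < sup.length) :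
    (exB sup m).testBit i = m.testBit (nth 0 sup i) := by
  induction sup generalizing i with
  | nil => simp at hi
  | cons t sup ih =>
    rw [exB_cons]
    rcases i with _ | i
    · exact Nat.testBit_bit_zero _ _
    · rw [Nat.testBit_bit_succ]; exact ih (by simpa using hi)

theorem exB_lt (sup : List ℕ) (m : ℕ) : exB sup m < 2 ^ sup.length := by
  induction sup with
  | nil => exact Nat.one_pos
  | cons t sup ih =>
    rw [exB_cons, Nat.bit_val, List.length_cons, pow_succ]
    have := Bool.toNat_le (m.testBit t)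
    omega

theorem sum_nth {M : Type*} [AddCommMonoid M] (l : List ℕ) (f : ℕ → M) :
    ∑ i ∈ range l.length, f (nth 0 l i) = (l.map f).sum := by
  induction l with
  | nil => rfl
  | cons a l ih => rw [List.length_cons, sum_range_succ', List.map_cons, List.sum_cons, add_comm, ← ih]; rfl

theorem bt_inj {a b : Bool} (h : bt (ZMod 2) a = bt (ZMod 2) b) : a = b := by
  revert a b; decide

/-! ### The code -/

/-- The data of the code. -/
structure CD where
  piv : List ℕ
  col : List ℕ
  gb : List ℕ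
  GG : List ℕ

namespace CD

variable (D : CD)

noncomputable def G (j t : ℕ) : ℕ := field 2 3 (nth 0 D.GG j) t

/-- The congruences for lattice vectors. -/
def RC (x : ℕ → ℤ) : Prop :=
  (∀ t < 56, (2 : ℤ) ∣ x t + ∑ j ∈ range 19, if (nth 0 D.col t).testBit j then x (nth 0 D.piv j) else 0) ∧
    ∀ j < 19, (4 : ℤ) ∣ ∑ t ∈ range 56, (D.G j t : ℤ) * x t

noncomputable instance (x : ℕ → ℤ) : Decidable (D.RC x) := by unfold RC; infer_instance

noncomputable def okB : Bool := Nat.beq D.col.length 56 && (Nat.beq D.gb.length 19 &&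
  (allL D.col (fun a => Nat.blt a 524288) && allLt 19 fun j => allLt 56 fun t =>
    ((nth 0 D.col t).testBit j == (nth 0 D.gb j).testBit t) &&
    ((nth 0 D.gb j).testBit t == Nat.beq (D.G j t % 2) 1)))

noncomputable def syn (l : List ℕ) : ℕ := l.foldr (fun t acc => nth 0 D.col t ^^^ acc) 0

noncomputable def baseK (sup : List ℕ) (w : ℕ) (k : ℕ → List ℕ → Bool) : Bool :=
  lt' (msk (2 ^ w)) fun full => buildL w (fun i => sl i w) fun SL => Nat.beq SL.length w &&
    buildL 19 (fun j => Nat.xor (xorSel SL (exB sup (nth 0 D.gb j)))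
      (Bool.rec full 0 (Nat.beq ((sup.map (D.G j)).sum / 2 % 2) 1))) (k full)

noncomputable def solM (full : ℕ) (Ms : List ℕ) (ex : ℕ) : ℕ :=
  Nat.rec full (fun j ih => Nat.land ih (Bool.rec (nth 0 Ms j) (Nat.xor (nth 0 Ms j) full) (ex.testBit j))) 19

variable {D} {x : ℕ → ℤ}

theorem RC.add {y : ℕ → ℤ} (h : D.RC x) (h' : D.RC y) : D.RC (x + y) := by
  refine ⟨fun t ht => ?_, fun j hj => ?_⟩
  · have := dvd_add (h.1 t ht) (h'.1 t ht)
    rw [add_add_add_comm, ← sum_add_distrib] at this
    refine this.trans (dvd_of_eq ?_)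
    refine congrArg₂ _ rfl (sum_congr rfl fun j _ => ?_)
    split_ifs <;> simp
  · simpa only [Pi.add_apply, mul_add, sum_add_distrib] using dvd_add (h.2 j hj) (h'.2 j hj)

theorem RC.smul (h : D.RC x) (a : ℤ) : D.RC (a • x) := by
  refine ⟨fun t ht => ?_, fun j hj => ?_⟩
  · simpa only [Pi.smul_apply, smul_eq_mul, mul_add, mul_sum, mul_ite, mul_zero] using (h.1 t ht).mul_left a
  · simpa only [Pi.smul_apply, smul_eq_mul, mul_sum, mul_left_comm] using (h.2 j hj).mul_left a

def od (x : ℕ → ℤ) (t : ℕ) : Bool := decide (x t % 2 = 1)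
def r2 (x : ℕ → ℤ) (t : ℕ) : Bool := decide (x t % 4 = 2)
def r3 (x : ℕ → ℤ) (t : ℕ) : Bool := decide (x t % 4 = 3)

theorem bt_od (t : ℕ) : bt (ZMod 2) (od x t) = (x t : ZMod 2) := by
  rw [← ZMod.intCast_mod (x t) 2, od, show ((2 : ℕ) : ℤ) = 2 from rfl]
  rcases Int.emod_two_eq_zero_or_one (x t) with h | h <;> rw [h] <;> rfl

noncomputable def nn (D : CD) (x : ℕ → ℤ) : ℕ := Nat.ofBits fun j : Fin 19 => od x (nth 0 D.piv j)

theorem par_eq (h : D.RC x) {t : ℕ} (ht : t < 56) : bt (ZMod 2) (od x t) =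
    ∑ j ∈ range 19, bt (ZMod 2) ((nth 0 D.col t).testBit j) * bt (ZMod 2) ((nn D x).testBit j) := by
  have h1 := (ZMod.intCast_zmod_eq_zero_iff_dvd _ 2).2 (h.1 t ht)
  rw [Int.cast_add, Int.cast_sum, add_eq_zero_iff_eq_neg, ZMod.neg_eq_self_mod_two] at h1
  rw [bt_od, h1]
  refine sum_congr rfl fun j hj => ?_
  rw [nn, Nat.testBit_ofBits_lt _ _ (mem_range.1 hj), bt_od]
  cases (nth 0 D.col t).testBit j <;> simp [bt]

theorem eqn (g : ℕ → ℕ) (r : List ℕ) : ((r.map fun t => (g t : ℤ) * x t).sum -
    ((((r.filter (od x)).map g).sum + 2 * (((r.filter (od x)).map fun t => g t * (r3 x t).toNat).sum +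
      ((r.filter (r2 x)).map g).sum) : ℕ) : ℤ)) % 4 = 0 := by
  induction r with
  | nil => rfl
  | cons t r ih =>
    obtain ⟨y, hy⟩ : ∃ y, x t = 4 * y + x t % 4 := ⟨x t / 4, by omega⟩
    have h4 : x t % 4 = 0 ∨ x t % 4 = 1 ∨ x t % 4 = 2 ∨ x t % 4 = 3 := by omega
    have h5 : (g t : ℤ) * x t = 4 * (g t * y) + g t * (x t % 4) := by rw [mul_left_comm, ← mul_add, ← hy]
    have a1 : od x t = decide (x t % 4 % 2 = 1) := by rw [od, Int.emod_emod_of_dvd _ (by norm_num)]
    have a2 : r2 x t = decide (x t % 4 = 2) := rfl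
    have a3 : r3 x t = decide (x t % 4 = 3) := rfl
    rw [List.map_cons, List.sum_cons, List.filter_cons, List.filter_cons, h5]
    rcases h4 with e | e | e | e <;> rw [e] at a1 a2 a3 ⊢ <;> norm_num at a1 a2 a3 <;>
      simp only [a1, a2, a3, if_true, Bool.false_eq_true, if_false, List.map_cons, List.sum_cons, Bool.toNat_true,
        Bool.toNat_false] <;> omega

theorem nrm_le (r : List ℕ) : (((r.filter (od x)).length + 4 * (r.filter (r2 x)).length : ℕ) : ℤ) ≤
    (r.map fun t => x t ^ 2).sum := by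
  induction r with
  | nil => simp
  | cons t r ih =>
    have h1 : x t % 2 = 1 → 1 ≤ x t ^ 2 := fun h => by
      have : x t ≤ -1 ∨ 1 ≤ x t := by omega
      rcases this with h | h <;> nlinarith
    have h2 : x t % 4 = 2 → 4 ≤ x t ^ 2 := fun h => by
      have : x t ≤ -2 ∨ 2 ≤ x t := by omega
      rcases this with h | h <;> nlinarith
    have h3 := sq_nonneg (x t)
    simp only [List.map_cons, List.sum_cons, List.filter_cons, od, r2, decide_eq_true_eq] at ih ⊢
    split_ifs <;> (try simp only [List.length_cons]) <;> omega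

theorem nrm_eq (r : List ℕ) (h : (r.map fun t => x t ^ 2).sum ≤ ((r.filter (od x)).length : ℕ)) :
    ∀ t ∈ r, x t = if od x t then (if r3 x t then -1 else 1) else 0 := by
  induction r with
  | nil => simp
  | cons t r ih =>
    have h0 := nrm_le (x := x) r
    simp only [List.map_cons, List.sum_cons, List.filter_cons] at h
    have h1 : x t % 2 = 1 → 1 ≤ x t ^ 2 := fun h => by
      have : x t ≤ -1 ∨ 1 ≤ x t := by omega
      rcases this with h | h <;> nlinarith
    have h3 := sq_nonneg (x t)
    have h4 : x t ^ 2 ≤ 1 → -1 ≤ x t ∧ x t ≤ 1 := fun h => abs_le.1 (by simpa using sq_le_one_iff_abs_le_one _ |>.1 h)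
    have h5 : x t ^ 2 ≤ 0 → x t = 0 := fun h => pow_eq_zero_iff (two_ne_zero) |>.1 (le_antisymm h h3)
    simp only [List.forall_mem_cons]
    by_cases e : od x t = true
    · rw [if_pos e, List.length_cons] at h
      have e' : x t % 2 = 1 := of_decide_eq_true e
      refine ⟨?_, ih (by omega)⟩
      rw [if_pos e, r3]
      simp only [decide_eq_true_eq]
      split_ifs <;> omega
    · rw [if_neg e] at h
      exact ⟨by rw [if_neg e]; omega, ih (by omega)⟩

section
variable (hD : D.okB = true)
include hD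

theorem ok : D.col.length = 56 ∧ D.gb.length = 19 ∧ (∀ t, nth 0 D.col t < 2 ^ 19) ∧ ∀ j < 19, ∀ t < 56,
    (nth 0 D.col t).testBit j = (nth 0 D.gb j).testBit t ∧
    bt (ZMod 2) ((nth 0 D.gb j).testBit t) = (D.G j t : ZMod 2) := by
  simp only [okB, Bool.and_eq_true, Nat.beq_eq, allL_iff, allLt_iff, Nat.blt_eq, beq_iff_eq] at hD
  refine ⟨hD.1, hD.2.1, fun t => ?_, fun j hj t ht => ⟨(hD.2.2.2 j hj t ht).1, ?_⟩⟩
  · rcases Enum.nth_mem_or 0 D.col t with e | e
    · rw [e]; norm_num
    · exact hD.2.2.1 _ e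
  · rw [(hD.2.2.2 j hj t ht).2, ← ZMod.natCast_mod (D.G j t) 2]
    rcases Nat.mod_two_eq_zero_or_one (D.G j t) with h | h <;> rw [h] <;> rfl

theorem supp (h : D.RC x) : (List.range 56).filter (xorSel D.gb (nn D x)).testBit =
    (List.range 56).filter (od x) := List.filter_congr fun t ht => bt_inj (by
  have ht := List.mem_range.1 ht
  rw [bt_xorSel, par_eq h ht, (ok hD).2.1]
  exact sum_congr rfl fun j hj => by rw [((ok hD).2.2.2 j (mem_range.1 hj) t ht).1, mul_comm])

theorem bt_syn {l : List ℕ} (hl : ∀ t ∈ l, t < 56) {j : ℕ} (hj : j < 19) :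
    bt (ZMod 2) ((D.syn l).testBit j) = ((l.map (D.G j)).sum : ℕ) := by
  induction l with
  | nil => simp [syn, bt]
  | cons t l ih =>
    have := (ok hD).2.2.2 j hj t (hl t (by simp))
    rw [syn, List.foldr_cons, Nat.testBit_xor, bt_xor, ← syn, ih fun a ha => hl a (by simp [ha]), this.1,
      this.2, List.map_cons, List.sum_cons, Nat.cast_add]

theorem syn_lt (l : List ℕ) : D.syn l < 2 ^ 19 := by
  induction l with
  | nil => exact Nat.two_pow_pos _
  | cons t l ih => exact Nat.xor_lt_two_pow ((ok hD).2.2.1 t) ih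

noncomputable def sgn (x : ℕ → ℤ) : ℕ := Nat.ofBits fun t : Fin 56 => r3 x t

theorem master (h : D.RC x) {j : ℕ} (hj : j < 19) :
    ((((List.range 56).filter (od x)).map fun t => D.G j t * (r3 x t).toNat).sum : ℕ) +
      bt (ZMod 2) ((D.syn ((List.range 56).filter (r2 x))).testBit j) =
      (((((List.range 56).filter (od x)).map (D.G j)).sum / 2 % 2 : ℕ) : ZMod 2) := by
  have h1 := eqn (x := x) (D.G j) (List.range 56)
  have h2 : (4 : ℤ) ∣ ((List.range 56).map fun t => (D.G j t : ℤ) * x t).sum := h.2 j hj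
  rw [bt_syn hD (fun t ht => List.mem_range.1 (List.mem_of_mem_filter ht)) hj, ← Nat.cast_add,
    ZMod.natCast_eq_natCast_iff']
  omega

theorem baseK_sound (h : D.RC x) {w : ℕ} {k : ℕ → List ℕ → Bool}
    (hk : D.baseK ((List.range 56).filter (od x)) w k = true)
    (hw : ((List.range 56).filter (od x)).length = w) : ∃ Ms, k (msk (2 ^ w)) Ms = true ∧
      (solM (msk (2 ^ w)) Ms (D.syn ((List.range 56).filter (r2 x)))).testBit
        (exB ((List.range 56).filter (od x)) (sgn x)) = true := by
  obtain ⟨SL, h1, h2⟩ := buildL_sound hk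
  rw [Bool.and_eq_true, Nat.beq_eq] at h1
  obtain ⟨Ms, h3, h4⟩ := buildL_sound h1.2
  refine ⟨Ms, h3, ?_⟩
  have hm := fun j hj => master hD h (j := j) hj
  have hs : ∀ t ∈ (List.range 56).filter (od x), t < 56 :=
    fun t ht => List.mem_range.1 (List.mem_of_mem_filter ht)
  generalize (List.range 56).filter (od x) = sup at *
  generalize D.syn _ = ex at *
  have h5 := exB_lt sup (sgn x)
  rw [hw] at h5
  have hf : (msk (2 ^ w)).testBit (exB sup (sgn x)) = true := by
    rw [msk_eq, Nat.testBit_two_pow_sub_one]; simpa using h5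
  have key : ∀ j < 19, (nth 0 Ms j).testBit (exB sup (sgn x)) = !ex.testBit j := fun j hj => by
    have h6 : bt (ZMod 2) ((xorSel SL (exB sup (nth 0 D.gb j))).testBit (exB sup (sgn x))) =
        ((sup.map fun t => D.G j t * (r3 x t).toNat).sum : ℕ) := by
      rw [bt_xorSel, h1.1, ← sum_nth, hw, Nat.cast_sum]
      refine sum_congr rfl fun i hi => ?_
      have hi := mem_range.1 hi
      have h7 := hs _ (FT.nth_mem 0 (hw ▸ hi))
      rw [h2 i hi, testBit_sl, decide_eq_true h5, Bool.true_and, testBit_exB _ _ (hw ▸ hi),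
        testBit_exB _ _ (hw ▸ hi),
        ((ok hD).2.2.2 j hj _ h7).2, sgn, Nat.testBit_ofBits_lt _ _ h7, Nat.cast_mul]
      cases r3 x (nth 0 sup i) <;> rfl
    have h7 := hm j hj
    rw [← h6] at h7
    rw [h4 j hj, xor_eq, Nat.testBit_xor]
    revert h7
    generalize (xorSel SL (exB sup (nth 0 D.gb j))).testBit (exB sup (sgn x)) = a, ex.testBit j = b
    rcases Nat.mod_two_eq_zero_or_one ((sup.map (D.G j)).sum / 2) with e | e <;> rw [e]
    · rw [show Nat.beq 0 1 = false from rfl, hf]; revert a b; decide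
    · rw [show Nat.beq 1 1 = true from rfl, Nat.zero_testBit]; revert a b; decide
  unfold solM
  generalize 19 = m at key
  induction m with
  | zero => exact hf
  | succ m ih =>
    simp only [land_eq, Nat.testBit_and, Bool.and_eq_true] at ih ⊢
    refine ⟨ih fun j hj => key j (by omega), ?_⟩
    have := key m (by omega)
    cases e : ex.testBit m
    · rw [this, e]; rfl
    · rw [xor_eq, Nat.testBit_xor, this, e, hf]; rfl

end

/-- All words of weight at most sixteen are in the list. -/
noncomputable def lowB (D : CD) (N : List ℕ) : Bool :=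
  lt' (msk (2 ^ 19)) fun full => buildL 19 (fun i => sl i 19) fun SL => Nat.beq SL.length 19 &&
    thrK SL full D.col (List.replicate 17 0) fun Ts => Nat.beq (Nat.lor (nth 0 Ts 16) (orBits N)) full

theorem lowB_sound (hD : D.okB = true) {N : List ℕ} (hN : D.lowB N = true) (h : D.RC x)
    (hw : ((List.range 56).filter (od x)).length ≤ 16) : nn D x ∈ N := by
  rw [lowB, lt'_eq] at hN
  obtain ⟨SL, h1, h2⟩ := buildL_sound hN
  rw [Bool.and_eq_true, Nat.beq_eq] at h1
  obtain ⟨Ts, h3, h4⟩ := thrK_sound h1.2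
  have hn : nn D x < 2 ^ 19 := Nat.ofBits_lt_two_pow _
  have h5 := h4 (nn D x) 0 (fun i hi => by
    rcases Enum.nth_mem_or 0 (List.replicate 17 0) i with e | e
    · rw [e] at hi; simp at hi
    · rw [List.eq_of_mem_replicate e] at hi; simp at hi) 16
  have h6 : D.col = (List.range 56).map (nth 0 D.col) := List.ext_getElem (by simp [(ok hD).1]) fun i h1 h2 => by
    simp [nth_eq, h1]
  have h7 : (D.col.countP fun a => (xorSel SL a).testBit (nn D x)) = ((List.range 56).filter (od x)).length := by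
    rw [h6, List.countP_map, ← List.countP_eq_length_filter]
    refine List.countP_congr fun t ht => ?_
    have : (xorSel SL (nth 0 D.col t)).testBit (nn D x) = od x t := bt_inj (by
      rw [bt_xorSel, par_eq h (List.mem_range.1 ht), h1.1]
      exact sum_congr rfl fun j hj => by rw [h2 j (mem_range.1 hj), testBit_sl, decide_eq_true hn, Bool.true_and, mul_comm])
    rw [Function.comp_apply, this]
  have h8 := congrArg (fun y => y.testBit (nn D x)) (Nat.eq_of_beq_eq_true h3)
  simp only [lor_eq, Nat.testBit_or, msk_eq, Nat.testBit_two_pow_sub_one] at h8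
  rw [decide_eq_true hn, Bool.or_eq_true] at h8
  exact orBits_iff.1 (h8.resolve_left fun e => by have := h5 e; omega)

noncomputable def sup (D : CD) (n : ℕ) : List ℕ := (List.range 56).filter (xorSel D.gb n).testBit

noncomputable def chk8 (D : CD) (n : ℕ) : Bool := Nat.beq (D.sup n).length 8 &&
  D.baseK (D.sup n) 8 fun full Ms => allLt 57 fun a => allLt (a + 1) fun b =>
    Nat.beq (solM full Ms (Nat.xor (nth 0 D.col a) (nth 0 D.col b))) 0

theorem chk8_sound (hD : D.okB = true) (h : D.RC x) (hx : ((List.range 56).map fun t => x t ^ 2).sum = 16)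
    (h8 : D.chk8 (nn D x) = true) : False := by
  rw [chk8, sup, supp hD h, Bool.and_eq_true, Nat.beq_eq] at h8
  obtain ⟨Ms, h1, h2⟩ := baseK_sound hD h h8.2 h8.1
  have h3 := nrm_le (x := x) (List.range 56)
  have hs : ∀ t ∈ (List.range 56).filter (r2 x), t < 56 :=
    fun t ht => List.mem_range.1 (List.mem_of_mem_filter ht)
  have h0 : nth 0 D.col 56 = 0 := by rw [nth_eq, List.getD_eq_default _ _ (ok hD).1.le]
  have key : ∀ a < 57, ∀ b < 57, D.syn ((List.range 56).filter (r2 x)) ≠ nth 0 D.col a ^^^ nth 0 D.col b := by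
    intro a ha b hb e
    wlog hab : b ≤ a generalizing a b
    · exact this b hb a ha (by rw [e, Nat.xor_comm]) (by omega)
    have h4 := Nat.eq_of_beq_eq_true (allLt_iff.1 (allLt_iff.1 h1 a ha) b (by omega))
    rw [xor_eq, ← e] at h4
    rw [h4] at h2
    simp at h2
  rw [hx, h8.1] at h3
  generalize (List.range 56).filter (r2 x) = l at *
  rcases l with _ | ⟨a, _ | ⟨b, _ | ⟨c, l⟩⟩⟩
  · exact key 56 (by omega) 56 (by omega) (by simp [syn])
  · exact key a (by have := hs a (by simp); omega) 56 (by omega) (by simp [syn, h0])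
  · exact key a (by have := hs a (by simp); omega) b (by have := hs b (by simp); omega) (by simp [syn])
  · simp at h3; omega

noncomputable def chk0 (D : CD) : Bool := lt' (orBits (0 :: D.col)) fun M => allLt 56 fun c =>
  !Nat.beq (nth 0 D.col c) 0 && allLt c fun b => lt' (Nat.xor (nth 0 D.col b) (nth 0 D.col c)) fun y =>
    !M.testBit y && allLt b fun a => !M.testBit (Nat.xor (nth 0 D.col a) y)

theorem chk0_sound (hD : D.okB = true) (h0 : D.chk0 = true) (h : D.RC x)
    (hx : ((List.range 56).map fun t => x t ^ 2).sum = 16) (hn : nn D x = 0) : ∀ t < 56, x t % 4 = 0 := by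
  have h1 : (List.range 56).filter (od x) = [] := by
    rw [← supp hD h, hn, List.filter_eq_nil_iff]
    intro t _
    rw [Bool.not_eq_true]
    exact bt_inj (by rw [bt_xorSel]; simp [bt])
  have h2 : D.syn ((List.range 56).filter (r2 x)) = 0 := Nat.zero_of_testBit_eq_false fun j => by
    by_cases hj : j < 19
    · have := master hD h hj
      rw [h1] at this
      exact bt_inj (by simpa [bt] using this)
    · exact Nat.testBit_lt_two_pow ((syn_lt hD _).trans_le (Nat.pow_le_pow_right (by norm_num) (by omega)))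
  have h3 := nrm_le (x := x) (List.range 56)
  have hs : ∀ t ∈ (List.range 56).filter (r2 x), t < 56 :=
    fun t ht => List.mem_range.1 (List.mem_of_mem_filter ht)
  have hp : ((List.range 56).filter (r2 x)).Pairwise (· < ·) := List.pairwise_lt_range.filter _
  have h4 : (List.range 56).filter (r2 x) = [] := by
    rw [hx] at h3
    simp only [chk0, lt'_eq, allLt_iff, Bool.and_eq_true, Bool.not_eq_true', xor_eq] at h0
    have hm : ∀ t < 56, (orBits (0 :: D.col)).testBit (nth 0 D.col t) = true := fun t ht =>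
      orBits_iff.2 (List.mem_cons_of_mem _ (FT.nth_mem _ ((ok hD).1 ▸ ht)))
    have hz : (orBits (0 :: D.col)).testBit 0 = true := orBits_iff.2 (by simp)
    generalize (List.range 56).filter (r2 x) = l at *
    rcases l with _ | ⟨a, _ | ⟨b, _ | ⟨c, _ | ⟨d, _ | ⟨e, l⟩⟩⟩⟩⟩
    · rfl
    · have := (h0 a (hs a (by simp))).1
      simp [syn] at h2
      simp [h2] at this
    · have := ((h0 b (hs b (by simp))).2 a (by simpa using hp)).1
      simp only [syn, List.foldr, Nat.xor_zero] at h2
      rw [h2, hz] at this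
      exact absurd this (by simp)
    · simp only [List.pairwise_cons, List.mem_cons, forall_eq_or_imp] at hp
      have := ((h0 c (hs c (by simp))).2 b hp.2.1.1).2 a hp.1.1
      simp only [syn, List.foldr, Nat.xor_zero] at h2
      rw [h2, hz] at this
      exact absurd this (by simp)
    · simp only [List.pairwise_cons, List.mem_cons, forall_eq_or_imp] at hp
      have := ((h0 d (hs d (by simp))).2 c hp.2.2.1.1).2 b hp.2.1.1
      simp only [syn, List.foldr, Nat.xor_zero] at h2
      rw [← Nat.xor_eq_zero_iff.1 h2, hm a (hs a (by simp))] at this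
      exact absurd this (by simp)
    · simp at h3; omega
  intro t ht
  have h5 := List.filter_eq_nil_iff.1 h1 t (List.mem_range.2 ht)
  have h6 := List.filter_eq_nil_iff.1 h4 t (List.mem_range.2 ht)
  simp only [od, r2, decide_eq_true_eq] at h5 h6
  omega

def sg (c sm t : ℕ) : ℤ := if c.testBit t then (if sm.testBit t then -1 else 1) else 0

noncomputable def chk16 (D : CD) (f : ℕ → ℕ → ℕ → Bool) (n : ℕ) (sms : List ℕ) : Bool :=
  Nat.beq (D.sup n).length 16 && (D.baseK (D.sup n) 16 (fun full Ms =>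
    lt' (orBits (sms.map (exB (D.sup n)))) fun O => Nat.beq (Nat.lor (solM full Ms 0) O) O) &&
    lt' (xorSel D.gb n) fun c => allL sms (f (nth 0 (D.sup n) 0) c))

theorem chk16_sound (hD : D.okB = true) (h : D.RC x) (hx : ((List.range 56).map fun t => x t ^ 2).sum = 16)
    {f : ℕ → ℕ → ℕ → Bool} {sms : List ℕ} (h16 : D.chk16 f (nn D x) sms = true) :
    ∃ t0 c sm, f t0 c sm = true ∧ ∀ t < 56, x t = sg c sm t := by
  have hs := supp hD h
  simp only [chk16, sup, hs, Bool.and_eq_true, Nat.beq_eq, lt'_eq] at h16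
  obtain ⟨Ms, h1, h2⟩ := baseK_sound hD h h16.2.1 h16.1
  have h3 := nrm_le (x := x) (List.range 56)
  have h4 := nrm_eq (x := x) (List.range 56) (by rw [hx, h16.1]; rfl)
  rw [hx, h16.1] at h3
  rw [List.eq_nil_of_length_eq_zero (show ((List.range 56).filter (r2 x)).length = 0 by omega)] at h2
  have h5 := congrArg (fun y => y.testBit (exB ((List.range 56).filter (od x)) (sgn x)))
    (Nat.eq_of_beq_eq_true h1)
  simp only [lor_eq, Nat.testBit_or] at h5
  rw [show D.syn [] = 0 from rfl] at h2
  rw [h2, Bool.true_or] at h5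
  obtain ⟨sm, h6, h7⟩ := List.mem_map.1 (orBits_iff.1 h5.symm)
  refine ⟨_, _, sm, allL_iff.1 h16.2.2 sm h6, fun t ht => ?_⟩
  have h8 : (xorSel D.gb (nn D x)).testBit t = od x t := by
    have := congrArg (fun l => t ∈ l) hs
    simpa [ht] using this
  rw [h4 t (List.mem_range.2 ht), sg, h8]
  refine ite_congr rfl (fun e => ?_) fun _ => rfl
  obtain ⟨i, hi, rfl⟩ := List.getElem_of_mem (List.mem_filter.2 ⟨List.mem_range.2 ht, e⟩)
  have h9 := congrArg (fun y => y.testBit i) h7
  simp only [testBit_exB _ _ hi, nth_eq, List.getD_eq_getElem _ _ hi] at h9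
  rw [h9, sgn, Nat.testBit_ofBits_lt _ _ ht]

end CD

end Cfsg.Agent.RuC
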