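import Cfsg.Agent.CGT.Conj
import Cfsg.Prelude.Def_Spor_Ru

set_option autoImplicit false

/-! The Rudvalis lattice: bases, automorphisms, reduction modulo a prime. -/

namespace Cfsg.Agent.RuC

open Cfsg.Spor Cfsg.Agent.CGT Matrix

abbrev Z := GaussianInt

def σ : RuIdx ≃ Fin 28 := (finProdFinEquiv : Fin 7 × Fin 4 ≃ Fin (7 * 4))

noncomputable def vec (l : List Z) : RuVec := fun p => nth 0 l (σ p)
def lst (v : RuVec) : List Z := List.ofFn fun q : Fin 28 => v (σ.symm q)
def co (v : RuVec) (k : ℕ) : Z := if h : k < 28 then v (σ.symm ⟨k, h⟩) else 0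

theorem co_σ (v : RuVec) (p : RuIdx) : co v (σ p) = v p := by simp [co]
theorem co_vec (l : List Z) {k : ℕ} (hk : k < 28) : co (vec l) k = nth 0 l k := by simp [co, vec, hk]
theorem vec_lst (v : RuVec) : vec (lst v) = v := funext fun p => by
  rw [vec, lst, nth_eq, List.getD_eq_getElem _ _ (by simp), List.getElem_ofFn]; simp
theorem sum_co {M : Type*} [AddCommMonoid M] (f : ℕ → M) :
    ∑ p : RuIdx, f (σ p) = ∑ k ∈ Finset.range 28, f k := by
  rw [← Fin.sum_univ_eq_sum_range]; exact σ.sum_comp fun k => f k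

noncomputable def pack (l : List Z) : Z :=
  List.rec 0 (fun a _ ih => ⟨Int.add a.re (Int.mul 1099511627776 ih.re), Int.add a.im (Int.mul 1099511627776 ih.im)⟩) l

theorem pack_eq (l : List Z) :
    pack l = ∑ k ∈ Finset.range l.length, ((1099511627776 : ℤ) ^ k) • nth 0 l k := by
  induction l with
  | nil => rfl
  | cons a l ih =>
    have : pack (a :: l) = a + (1099511627776 : ℤ) • pack l := by
      ext <;> simp [pack]
    rw [this, ih, List.length_cons, Finset.sum_range_succ', Finset.smul_sum, add_comm]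
    simp only [smul_smul, pow_succ', pow_zero, one_smul]
    rfl

noncomputable def pk : RuVec →ₗ[Z] Z where
  toFun v := ∑ p, ((1099511627776 : ℤ) ^ (σ p : ℕ)) • v p
  map_add' v w := by simp [Finset.sum_add_distrib]
  map_smul' a v := by simp [Finset.mul_sum, mul_left_comm]

theorem pk_vec {l : List Z} (h : l.length = 28) : pk (vec l) = pack l := by
  rw [pack_eq, h, ← sum_co]; rfl

theorem digits_zero {T : ℤ} (hT : T ≠ 0) (n : ℕ) (x : ℕ → ℤ) (hx : ∀ k < n, |x k| < T)
    (h : ∑ k ∈ Finset.range n, T ^ k * x k = 0) : ∀ k < n, x k = 0 := by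
  induction n generalizing x with
  | zero => simp
  | succ n ih =>
    rw [Finset.sum_range_succ'] at h
    simp only [pow_succ', mul_assoc, ← Finset.mul_sum, pow_zero, one_mul] at h
    have h0 : x 0 = 0 := Int.eq_zero_of_abs_lt_dvd
      ((dvd_add_right (dvd_mul_right _ _)).1 (h ▸ dvd_zero T)) (hx 0 (by omega))
    rw [h0, add_zero, mul_eq_zero] at h
    intro k hk
    rcases k with _ | k
    · exact h0
    · exact ih (fun k => x (k + 1)) (fun k hk => hx _ (by omega)) (h.resolve_left hT) k (by omega)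

def reH : Z →+ ℤ := ⟨⟨Zsqrtd.re, rfl⟩, fun _ _ => rfl⟩
def imH : Z →+ ℤ := ⟨⟨Zsqrtd.im, rfl⟩, fun _ _ => rfl⟩

/-- Both parts are small. -/
def Sm (b : ℤ) (z : Z) : Prop := |z.re| ≤ b ∧ |z.im| ≤ b

theorem pk_inj {d : RuVec} (hd : ∀ p, Sm 1000000000 (d p)) (h : pk d = 0) : d = 0 := by
  have key : ∀ g : Z →+ ℤ, (∀ p, |g (d p)| ≤ 1000000000) → ∀ p, g (d p) = 0 := fun g hg p => by
    have h1 : ∑ p, (1099511627776 : ℤ) ^ (σ p : ℕ) * g (co d (σ p)) = 0 := by
      have h2 := congrArg g h
      simp only [pk, LinearMap.coe_mk, AddHom.coe_mk, map_sum, map_zsmul, map_zero] at h2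
      simpa only [co_σ, smul_eq_mul] using h2
    rw [sum_co fun k => (1099511627776 : ℤ) ^ k * g (co d k)] at h1
    rw [← co_σ d p]
    refine digits_zero (by norm_num) 28 (fun k => g (co d k)) (fun k hk => ?_) h1 _ (σ p).2
    rw [co, dif_pos hk]
    exact (hg _).trans_lt (by norm_num)
  funext p
  exact Zsqrtd.ext (key reH (fun p => (hd p).1) p) (key imH (fun p => (hd p).2) p)

noncomputable def bnd (l : List Z) : Bool :=
  allL l fun a => Nat.ble a.re.natAbs 1000 && Nat.ble a.im.natAbs 1000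

theorem bnd_sound {l : List Z} (h : bnd l = true) (k : ℕ) : Sm 1000 (nth 0 l k) := by
  rcases Enum.nth_mem_or 0 l k with e | e
  · rw [e]; simp [Sm]
  · have := allL_iff.1 h _ e
    simp only [Bool.and_eq_true, Nat.ble_eq] at this
    exact ⟨by rw [Int.abs_eq_natAbs]; omega, by rw [Int.abs_eq_natAbs]; omega⟩

/-- A list of rows with their packed forms. -/
noncomputable def rowsB (R : List (List Z)) (Rp : List Z) : Bool :=
  Nat.ble R.length 28 && (allL R (fun l => Nat.beq l.length 28 && bnd l) && decide (R.map pack = Rp))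

noncomputable def comb (c : List Z) (R : List (List Z)) : RuVec :=
  ∑ k ∈ Finset.range R.length, nth 0 c k • vec (nth [] R k)

noncomputable def dotP (c ps : List Z) : Z :=
  List.rec (motive := fun _ => List Z → Z) (fun _ => 0) (fun p _ ih c =>
    (fun a r : Z => (⟨Int.add (Int.sub (Int.mul a.re p.re) (Int.mul a.im p.im)) r.re,
      Int.add (Int.add (Int.mul a.re p.im) (Int.mul a.im p.re)) r.im⟩ : Z)) (nth 0 c 0) (ih c.tail)) ps c

theorem dotP_eq (c ps : List Z) :
    dotP c ps = ∑ k ∈ Finset.range ps.length, nth 0 c k * nth 0 ps k := by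
  induction ps generalizing c with
  | nil => rfl
  | cons p ps ih =>
    have : dotP c (p :: ps) = nth 0 c 0 * p + dotP c.tail ps := by
      ext <;> simp [dotP]
      rfl
    rw [this, ih, List.length_cons, Finset.sum_range_succ', add_comm]
    congr 1
    refine Finset.sum_congr rfl fun k _ => ?_
    congr 1
    cases c <;> simp [nth_eq]

theorem rowsB_sound {R : List (List Z)} {Rp : List Z} (h : rowsB R Rp = true) {c : List Z}
    (hc : bnd c = true) : pk (comb c R) = dotP c Rp ∧ ∀ p, Sm 100000000 (comb c R p) := by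
  simp only [rowsB, Bool.and_eq_true, Nat.ble_eq, allL_iff, Nat.beq_eq, decide_eq_true_eq] at h
  obtain ⟨h1, h2, rfl⟩ := h
  refine ⟨?_, fun p => ?_⟩
  · rw [dotP_eq, comb, map_sum, List.length_map]
    refine Finset.sum_congr rfl fun k hk => ?_
    have hk := Finset.mem_range.1 hk
    rw [map_smul, pk_vec (h2 _ (FT.nth_mem _ hk)).1, smul_eq_mul, nth_eq _ (R.map pack), nth_eq _ R,
      List.getD_eq_getElem _ _ hk, List.getD_eq_getElem _ _ (by simpa using hk), List.getElem_map]
  · have key : ∀ g : Z →+ ℤ, (∀ a b, Sm 1000 a → Sm 1000 b → |g (a * b)| ≤ 2000000) →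
        |g (comb c R p)| ≤ 100000000 := fun g hg => by
      rw [comb, Finset.sum_apply, map_sum]
      refine (Finset.abs_sum_le_sum_abs _ _).trans ((Finset.sum_le_card_nsmul _ _ 2000000 fun k hk =>
        hg _ _ (bnd_sound hc k) (bnd_sound (h2 _ (FT.nth_mem _ (Finset.mem_range.1 hk))).2 _)).trans ?_)
      rw [Finset.card_range, nsmul_eq_mul]
      omega
    have hm : ∀ x y : ℤ, |x| ≤ 1000 → |y| ≤ 1000 → |x * y| ≤ 1000000 := fun x y hx hy => by
      rw [abs_mul]; nlinarith [abs_nonneg x, abs_nonneg y]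
    refine ⟨key reH fun a b ha hb => ?_, key imH fun a b ha hb => ?_⟩
    · have h3 := abs_le.1 (hm _ _ ha.1 hb.1)
      have h4 := abs_le.1 (hm _ _ ha.2 hb.2)
      change |(a * b).re| ≤ _
      rw [Zsqrtd.re_mul, abs_le, mul_assoc]
      omega
    · have h3 := abs_le.1 (hm _ _ ha.1 hb.2)
      have h4 := abs_le.1 (hm _ _ ha.2 hb.1)
      change |(a * b).im| ≤ _
      rw [Zsqrtd.im_mul, abs_le]
      omega

theorem comb_eq {R R' : List (List Z)} {Rp Rp' c c' : List Z} (h : rowsB R Rp = true)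
    (h' : rowsB R' Rp' = true) (hc : bnd c = true) (hc' : bnd c' = true) (e : dotP c Rp = dotP c' Rp') :
    comb c R = comb c' R' := by
  obtain ⟨h1, h2⟩ := rowsB_sound h hc
  obtain ⟨h3, h4⟩ := rowsB_sound h' hc'
  refine sub_eq_zero.1 (pk_inj (fun p => ?_) (by rw [map_sub, h1, h3, e, sub_self]))
  have h5 := h2 p
  have h6 := h4 p
  simp only [Sm, abs_le, Pi.sub_apply, Zsqrtd.re_sub, Zsqrtd.im_sub] at h5 h6 ⊢
  omega

/-- The vector `z` is the combination `c` of the rows. -/
noncomputable def isC (Rp c z : List Z) : Bool :=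
  Nat.beq z.length 28 && (bnd z && (bnd c && decide (dotP c Rp = pack z)))

theorem isC_sound {R : List (List Z)} {Rp c z : List Z} (h : rowsB R Rp = true) (hz : isC Rp c z = true) :
    vec z = comb c R := by
  simp only [isC, Bool.and_eq_true, decide_eq_true_eq] at hz
  have h1 : rowsB [z] [pack z] = true := by simp [rowsB, allL_iff, Nat.eq_of_beq_eq_true hz.1, hz.2.1]
  rw [comb_eq h h1 hz.2.2.1 (c' := [1]) (by decide) (by rw [hz.2.2.2, dotP_eq]; simp [nth_eq])]
  simp [comb, nth_eq]

/-! ### The lattice as a span -/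

theorem lat_closed : ruLattice ∈ ruClosed := by
  refine ⟨fun v hv => AddSubgroup.mem_sInf.2 fun L hL => hL.1 v hv, fun v hv => ?_⟩
  rw [ruLattice] at hv ⊢
  simp only [AddSubgroup.mem_sInf] at hv ⊢
  exact ⟨fun L hL => (hL.2 v (hv L hL)).1, fun L hL => (hL.2 v (hv L hL)).2.1,
    fun L hL => (hL.2 v (hv L hL)).2.2.1, fun L hL => (hL.2 v (hv L hL)).2.2.2.1,
    fun L hL => (hL.2 v (hv L hL)).2.2.2.2⟩

theorem smul_eq (a : Z) (v : RuVec) : a • v = a.re • v + a.im • (gI • v) := by
  funext p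
  ext <;> simp [gI]

theorem lat_smul (a : Z) {v : RuVec} (hv : v ∈ ruLattice) : a • v ∈ ruLattice := by
  rw [smul_eq]
  exact add_mem (zsmul_mem hv _) (zsmul_mem (gI_smul_mem_ruLattice hv) _)

theorem comb_mem {R : List (List Z)} (h : ∀ l ∈ R, vec l ∈ ruLattice) (c : List Z) :
    comb c R ∈ ruLattice :=
  sum_mem fun _ hk => lat_smul _ (h _ (FT.nth_mem _ (Finset.mem_range.1 hk)))

def apM : ℕ → RuVec → RuVec
  | 0 => ruRj
  | 1 => ruRk
  | 2 => ruSign
  | _ => ruShift

theorem apM_mem (a : ℕ) {v : RuVec} (hv : v ∈ ruLattice) : apM a v ∈ ruLattice := by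
  have := lat_closed.2 v hv
  unfold apM
  split
  exacts [this.2.1, this.2.2.1, this.2.2.2.1, this.2.2.2.2]

theorem apM_add (a : ℕ) (v w : RuVec) : apM a (v + w) = apM a v + apM a w := by
  funext ⟨n, t⟩
  unfold apM
  split
  · fin_cases t <;> simp [ruRj, mul_add, add_comm]
  · fin_cases t <;> simp [ruRk, mul_add, add_comm]
  · simp only [ruSign, Pi.add_apply]; split_ifs <;> ring
  · rfl

theorem apM_smul (a : ℕ) (z : Z) (v : RuVec) : apM a (z • v) = z • apM a v := by
  funext ⟨n, t⟩
  unfold apM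
  split
  · fin_cases t <;> simp [ruRj, mul_left_comm]
  · fin_cases t <;> simp [ruRk, mul_left_comm]
  · simp only [ruSign, Pi.smul_apply, smul_eq_mul]; split_ifs <;> ring
  · rfl

/-- The basis vectors are images of vectors of the table. -/
noncomputable def fromB (B : List (List Z)) (ws : List (List ℕ)) : Bool :=
  allLt B.length fun k => Nat.blt (nth 0 (nth [] ws k) 0) 20 &&
    decide (lst ((nth [] ws k).tail.foldr apM (nth 0 ruTable (nth 0 (nth [] ws k) 0))) = nth [] B k)

theorem fromB_sound {B : List (List Z)} {ws : List (List ℕ)} (h : fromB B ws = true) :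
    ∀ l ∈ B, vec l ∈ ruLattice := fun l hl => by
  obtain ⟨k, hk, rfl⟩ := List.getElem_of_mem hl
  have h1 := allLt_iff.1 h k hk
  rw [Bool.and_eq_true, Nat.blt_eq, decide_eq_true_eq, nth_eq _ B, List.getD_eq_getElem _ _ hk] at h1
  rw [← h1.2, vec_lst]
  generalize (nth [] ws k).tail = w
  induction w with
  | nil => exact lat_closed.1 _ (FT.nth_mem _ h1.1)
  | cons a w ih => exact apM_mem a ih

/-- The combinations `C` of the rows are the vectors `f k`. -/
noncomputable def allC (Rp : List Z) (C : List (List Z)) (n : ℕ) (f : ℕ → List Z) : Bool :=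
  allLt n fun k => isC Rp (nth [] C k) (f k)

theorem lat_ind {B : List (List Z)} {Bp : List Z} (h : rowsB B Bp = true) {C : ℕ → List (List Z)}
    (hT : allC Bp (C 4) 20 (fun k => lst (nth 0 ruTable k)) = true)
    (hM : ∀ a < 4, allC Bp (C a) B.length (fun k => lst (apM a (vec (nth [] B k)))) = true)
    {P : RuVec → Prop} (h0 : ∀ l ∈ B, P (vec l)) (h1 : P 0) (h2 : ∀ v w, P v → P w → P (v + w))
    (h3 : ∀ (a : Z) v, P v → P (a • v)) : ∀ v ∈ ruLattice, P v := by
  let S := Submodule.span Z {v | ∃ l ∈ B, v = vec l}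
  have hS : ∀ c, comb c B ∈ S := fun c => sum_mem fun k hk => S.smul_mem _
    (Submodule.subset_span ⟨_, FT.nth_mem _ (Finset.mem_range.1 hk), rfl⟩)
  have hA : ∀ a < 4, ∀ v ∈ S, apM a v ∈ S := fun a ha v hv => by
    induction hv using Submodule.span_induction with
    | mem v hv =>
      obtain ⟨l, hl, rfl⟩ := hv
      obtain ⟨k, hk, rfl⟩ := List.getElem_of_mem hl
      have h4 := isC_sound h (allLt_iff.1 (hM a ha) k hk)
      rw [vec_lst, nth_eq _ B, List.getD_eq_getElem _ _ hk] at h4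
      exact h4 ▸ hS _
    | zero => rw [← zero_smul Z (0 : RuVec), apM_smul, zero_smul]; exact S.zero_mem
    | add v w _ _ hv hw => rw [apM_add]; exact S.add_mem hv hw
    | smul z v _ hv => rw [apM_smul]; exact S.smul_mem _ hv
  have h4 : S.toAddSubgroup ∈ ruClosed := ⟨fun v hv => by
      obtain ⟨k, hk, rfl⟩ := List.getElem_of_mem hv
      have h4 := isC_sound h (allLt_iff.1 hT k hk)
      rw [vec_lst, nth_eq, List.getD_eq_getElem _ _ hk] at h4
      exact h4 ▸ hS _,
    fun v hv => ⟨S.smul_mem _ hv, hA 0 (by decide) v hv, hA 1 (by decide) v hv, hA 2 (by decide) v hv,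
      hA 3 (by decide) v hv⟩⟩
  intro v hv
  have h5 : v ∈ S := sInf_le h4 hv
  clear hv
  induction h5 using Submodule.span_induction with
  | mem v hv => obtain ⟨l, hl, rfl⟩ := hv; exact h0 l hl
  | zero => exact h1
  | add v w _ _ hv hw => exact h2 _ _ hv hw
  | smul z v _ hv => exact h3 _ _ hv

end Cfsg.Agent.RuC
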