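import Cfsg.Agent.RuC.Bnd

set_option autoImplicit false
set_option linter.style.haveILetI false

/-! The model on lines of short vectors. -/

namespace Cfsg.Agent.RuC

open Cfsg.Spor Cfsg.Agent.CGT Matrix

def e4 (k : ℕ) : List Z := List.ofFn fun q : Fin 28 => if (q : ℕ) = k then 4 else 0

theorem vec_e4 (p : RuIdx) : vec (e4 (σ p)) = Pi.single p 4 := funext fun q => by
  rw [vec, e4, nth_eq, List.getD_eq_getElem _ _ (by simp), List.getElem_ofFn]
  simp [Pi.single_apply, Fin.val_inj]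

theorem e4_mem (L : List (List Z)) (p : RuIdx) : e4 (σ p) ∈ L ++ (List.range 28).map e4 :=
  List.mem_append_right _ (List.mem_map_of_mem (List.mem_range.2 (σ p).2))

theorem mem_of_sv {L : List (List Z)} (h : ∀ l ∈ L ++ (List.range 28).map e4, Sv l) (p : RuIdx) :
    (Pi.single p 4 : RuVec) ∈ ruLattice := vec_e4 p ▸ (h _ (e4_mem L p)).1

variable {T : FT} {P : List (List ℕ)} {N : ℕ} (hT : T.OK e5) (hq : T.q = 5) (hP : T.ptsB 28 N P = true)
  (hC : Cl P N)
include hT hq hP hC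

theorem card_le {L : List (List Z)} (h : ∀ l ∈ L ++ (List.range 28).map e4, Sv l) {ns : List ℕ}
    (hb : bndB T P N (L ++ (List.range 28).map e4) [] ns = true) {m : ℕ} (e : ns.prod = m * 4) :
    Finite Ru ∧ Nat.card Ru ≤ m := by
  have hE := mem_of_sv h
  obtain ⟨h1, h2⟩ := (bndB_sound hT hq hP hC (E := []) (by simp) (by simp) h hb fun g _ hg =>
    eq_one_of_fix g hE fun p => congrArg Subtype.val (hg ⟨_, hE p⟩ ⟨_, e4_mem L p, (vec_e4 p).symm⟩)).top
      (eq_top_iff.2 fun g _ v hv => by simp at hv)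
  refine ⟨inferInstance, Nat.le_of_mul_le_mul_right (c := 4) ?_ (by norm_num)⟩
  rw [Subgroup.card_eq_card_quotient_mul_card_subgroup (Subgroup.center fourRu), e] at h2
  refine (Nat.mul_le_mul_left _ (Nat.le_of_dvd Nat.card_pos ?_)).trans h2
  rw [← iota_order hE]
  exact Subgroup.orderOf_dvd_natCard _ iota_mem

theorem model (hE : ∀ p, (Pi.single p 4 : RuVec) ∈ ruLattice) {γ : ℕ → fourRu} {ns : List Net} {k : ℕ}
    (hv : validAll (2 ^ k) ns = true) (hf : fixAbove k N ns = true)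
    (ha : ∀ j, ∀ i < N, ∃ a : ZMod 5, ρ hE (γ j) *ᵥ pt P i = a • pt P (netPerm ns j i)) {b m : ℕ} {cs : List ℕ}
    (hb : fnd P 1 1 0 (2 ^ b) = true)
    (hg : Nat.beq (grow ns ((List.range m).map fun j => [2 * j]) cs (2 ^ b)) (msk N) = true) :
    ∃ φ : fourRu →* Equiv.Perm ℕ, (∀ j, φ (γ j) = netPerm ns j) ∧ ∀ g, φ g ∈ bddPerm N := by
  have key : ∀ g (v : ruLattice) (a : ZMod 5), ρ hE g *ᵥ (a • red v) = a • red (ac g v) := fun g v a => by
    rw [mulVec_smul, red_ac g hE]; rfl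
  have h1 : ∀ i, (msk N).testBit i = true → i < N → ∃ v : ruLattice, ruNorm v = 16 ∧ ∃ a : ZMod 5,
      pt P i = a • red v := by
    rw [← Nat.eq_of_beq_eq_true hg]
    refine grow_ind hv (fun u hu i h hi => ?_) cs fun i hi _ => ?_
    · obtain ⟨j, -, rfl⟩ := List.mem_map.1 hu
      rw [ev_singleton, CGT.lp, ext_two_mul] at h
      obtain ⟨v, h2, a, h3⟩ := h (bddPerm_lt (fixAbove_sound hv hf j) hi)
      obtain ⟨c, h4⟩ := ha j i hi
      refine ⟨((γ j)⁻¹ : fourRu).1 v, ((γ j)⁻¹.2.2.2 v).trans h2, c * a, ?_⟩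
      rw [← key, mul_smul, ← h3, ← h4, mulVec_mulVec, ← map_mul, inv_mul_cancel, map_one, one_mulVec]
    · obtain ⟨⟨n, h2, h3⟩, -⟩ := fnd_sound hT hq hP (by norm_num) hb
      rw [Nat.testBit_two_pow, decide_eq_true_eq] at hi h2
      subst hi h2
      refine ⟨⟨_, hE (0, 0)⟩, show ruNorm (Pi.single (0, 0) 4) = 16 by decide +kernel, -1, h3.trans ?_⟩
      change e5 1 • red (wv 1 0) = (-1 : ZMod 5) • red (Pi.single (0, 0) 4)
      decide +kernel
  obtain ⟨-, p2, -⟩ := FT.ptsB_sound (σ := σ) hT hP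
  refine FT.exists_model' hT (ρ hE) hv hf hP ha fun g i hi => ?_
  obtain ⟨v, h2, a, h3⟩ := h1 i (by rw [msk_eq, Nat.testBit_two_pow_sub_one, decide_eq_true hi]) hi
  obtain ⟨n, h4, c, -, h5⟩ := hC.pt (g.1 v).2 ((g.2.2.2 v).trans h2)
  have h6 : e5 c ≠ 0 := fun e => p2 n h4 (by rw [← pt, h5, e, zero_smul])
  refine ⟨n, h4, a * (e5 c)⁻¹, ?_⟩
  rw [← pt, h3, key, h5, smul_smul, inv_mul_cancel_right₀ h6]

end Cfsg.Agent.RuC
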