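import Cfsg.Agent.RuC.Cert
import Cfsg.Agent.CGT.Out

set_option autoImplicit false
set_option Elab.async false
set_option maxRecDepth 100000
set_option linter.all false

namespace Cfsg.Agent.RuC
open Cfsg.Agent.CGT

noncomputable def g_Ws : List (List ℕ) := [[8, 6, 4, 6, 0, 4, 6, 2, 4, 0, 2, 0], [3, 4, 2, 4, 6, 8, 6, 2, 4, 1, 6, 4, 6, 0, 4, 1, 2, 1, 1], [2, 6, 0, 8, 1, 4, 6, 8, 2, 4, 1, 1, 6, 4, 6, 0, 4, 3, 0, 4, 2, 1, 3], [1, 4, 3, 3, 0, 4, 6, 4, 1, 6, 4, 6, 2, 4, 1, 4], [4, 2, 6, 4, 6, 2, 1, 2, 4, 6, 2, 1, 2, 4, 3, 1, 2], [0, 2, 1, 2, 4, 3, 0, 3, 0], [2, 1, 3, 1, 1, 4, 1, 2, 1], [6, 1, 6, 2, 0], [3, 3, 0, 3], [1, 1, 1], [0], [2], [4], [6], [8]]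
theorem g_s0 : slpB 12 m_ts (chainBase [] c_ls) g_Ws [[1, 5, 5, 0, 1, 5, 4, 4, 2, 0, 4], [0, 2, 2, 0, 4, 3, 3, 1, 5, 2, 0], [8, 7, 8, 8, 6, 8, 7, 9, 6, 8, 6], [6, 9, 7, 7, 6, 6, 7, 8, 8, 7], [12, 10, 13, 11, 12, 10, 10, 10, 13, 13, 12], [11, 12, 11, 12, 11, 13, 11], [15, 14, 14, 16], [19, 19, 19], [14, 17, 17, 17, 18, 18, 18], [11, 13, 11, 16, 14, 16, 14, 19], [8, 7, 7, 7, 8, 6, 13, 13, 16, 16, 16, 14, 19, 19, 19], [0, 9, 6, 9, 7, 7, 7, 11, 12, 10, 13, 17, 17, 17, 18, 18, 18, 18]] 3 15 = true := by decide +kernel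
theorem g_top {G : Type*} [Group G] {φ : G →* Equiv.Perm ℕ} {γ : ℕ → G}
    (C : Cert φ γ 12 m_ns m_ts [0, 2, 4, 6, 8] c_ls) : gw γ (g_Ws.take 3) = ⊤ := by
  have h0 : SlpTo γ (gw γ (g_Ws.take 3)) g_Ws 3 := fun i hi =>
    ev_mem_gw γ (by interval_cases i <;> decide +kernel)
  rw [eq_top_iff, ← C.gen]
  exact SlpTo.gp_le (SlpTo.step C.M C.base (by decide +kernel) h0 g_s0) (by decide +kernel)

end Cfsg.Agent.RuC
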