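import Cfsg.Agent.RuC.Cert
import Cfsg.Agent.CGT.Out

set_option autoImplicit false
set_option Elab.async false
set_option maxRecDepth 100000
set_option linter.all false

namespace Cfsg.Agent.RuC
open Cfsg.Agent.CGT

noncomputable def cu_l0 : Level := ⟨2304, [[0], [2], [4], [6], [8]], [4, 3, 2, 0, 1, 3, 4, 2, 0, 3, 1, 2, 4, 3, 0, 1, 2, 4, 3, 2, 0, 1, 0, 0], 0xfffffffffffffffffffffffffffffffffffffffffffffffffffffffffffffffffffffffffffffffffffffffffffffffffffffffffffffffffffffffffffffffffffffffffffffffffffffffffffffffffffffffffffffffffffffffffffffffffffffffffffffffffffffffffffffffffffffffffffffffffffffffffffffffffffffffffffffffffffffffffffffffffffffffffffffffffffffffffffffffffffffffffffffffffffffffffffffffffffffffffffffffffffffffffffffffffffffffffffffffffffffffffffffffffffffffffffffffffffffffffff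ffffffffffffffffffffffffffffffffffffffffffffffffffffffffffffffffffffffffffffffffffffffffffffffffffffffffffffffffffffffffffffffffffffffffffffffffffffffffffffffffffffffffffffffffffffffffffffffffffffffffffffffffffffffffffffffffffffffffffffffffffffffffffffffffffffffffffffffffffffffffffffffffffffffffffffffffffffffffffffffffffffffffffffffffffffffffffffffffffffffffffffffffffffffffffffffffffffffffffffffffffffffffffffffffffffffffffffffffffffffffffffffffffffffffffffffffffffffffffffffffffffffffffffffffffffffffffffffffffffffffffffffffffffffffffffffffffffffffffffffffffffffffffff, 4060⟩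
noncomputable def cu_l1 : Level := ⟨1225, [[0], [2], [4], [6]], [3, 2, 0, 1, 3, 2, 0, 1, 3, 2, 0, 1, 2, 3, 0, 1, 2, 3, 0, 1, 2, 0], 0xffffffffffffffffffffffffffffffffffffffffffffffffffffffffffffffffffffffffffffffffffffffffffffffffffffffffffffffffffffffffffffffffffffffffffffffffffffffffffffffffffffffffffffffffffffffffffffffffffffffffffffffffffffffffffffffffffffffffffffffffffffffffffffffffffffffffffffffffffffffffffffffffffffffffffffffffffffffffffffffffffffffffffffffffffffffffffffffffffffffffffffffffffffffffffffffffffffffffffffffffffffffffffffffffffffffffffffffffffffffffffffffffffffffffffffffffffffffffffffffffffffffffffffffffffffffffffffffffffffffffffffffffffffffffffffffffffffffffffffffffffffffffffffffff, 2304⟩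
noncomputable def cu_l2 : Level := ⟨1821, [[0], [2], [4]], [0, 1, 2, 0, 1, 0, 2, 1, 0, 2, 1, 0, 1, 1], 0x8080c6006c003c691c818886288284427200d08c061233080aa000e440330a0a0f1012121284b1000b2302f000d8a022000066023c0136631821828238228162100011480d211766111200840f171184110c4004394d14060311030017c30941120333270004420603841b630c0809810fb22188212200848488b299020007222b80270f33e43de84e0f5a0ff099f0726d1c4c3d52b6371c863b91b5ad89c1d6d3c4ad49c2b373948828c30036108832003343181218049c13040119506282261601028310c49440a92049888098c140822299006c10262200662464242102392062c601041c4c0188830225a11011c13410803294304508200080000002b2080200000003000001002001000204040004040008001011000020002440000400, 650⟩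
noncomputable def cu_l3 : Level := ⟨976, [[2, 4, 2, 1, 4, 3, 1], [4, 0, 2, 4, 2, 1, 2]], [], 0x80000000000000000000000000000000000000002000000000000000020000000000000000000000000000000008000082000000000000000000000000000000001008000040000000000000000000000000040000000000000000000000001000000000002000000000000000000000000000000000001000000000000000000008000000000000000000000200000000040004000000000010000000000000000000000000100000000000000000000000200000000000000000000000000000000000000000000000000000000000000000100000000000000000000000000000000100000000000000000000000000200080000000000000000000000000000000000000000000000000000000000000000, 24⟩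
noncomputable def cu_ls : List Level := [cu_l0, cu_l1, cu_l2, cu_l3]
noncomputable def cu_S : Srch := ⟨12, m_ts, (chainBase [] c_ls), [3, 8, 4, 2, 1, 2, 6, 4, 6, 4, 3, 1, 4, 3, 3, 1], [3, 8, 4, 2, 1, 2, 6, 4, 6, 4, 3, 1, 4, 3, 3, 1], [[2, 2, 2, 1, 1, 6, 1, 4, 6, 1, 1, 4, 6, 8, 4, 6, 0, 4, 2, 1, 4, 6, 0, 4, 1, 2]]⟩
noncomputable def cu_lk : List ℕ := [2305, 1226, 1822]
noncomputable def cu_tl : List Level := [cu_l1, cu_l2, cu_l3]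
noncomputable def cu_R0 : ℕ := 0x600000000000000000000000000000000000000000000000010000000000000000000000000000000000000000000000000000000000000000000000000000000000000000000000000000000000000000000000400000000010002000000000000000000000000000000000000000000000000000000000000000000000000000000000000000000004000000000000000000000000000000000000000000000800000000000000008000000000000000000000000000000000000080000000000000000000000800000000000000000000000000000000000000122200001608010201140c0830282004200000128041a022005000100042002022014020000809000094000800040808000000a080401002048000080402000a008001140200004040000202a00070100000000802844100002000840060a0800044030600440000401000a012500000008a80008200000108000000042424120000130031340d0101a50100240a0200018000829700200100003000008008004c000008400160010000080000048006004220000020811800000000080004802000000000084000094200840000809080000910060408001000430103000010000002400000840002001020000100400000000a254900000047142000001921800000002c00000000800008088040c3000811000680111c20000212110020400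
theorem cu_l0_ok : (ptsOK 12 [] && (wordsIn [0, 2, 4, 6, 8] cu_l0.S && cu_l0.ok 12 m_ns m_ts [])) = true := by decide +kernel
theorem cu_l1_ok : (ptsOK 12 [2304] && (wordsIn [0, 2, 4, 6, 8] cu_l1.S && cu_l1.ok 12 m_ns m_ts [2304])) = true := by decide +kernel
theorem cu_l2_ok : (ptsOK 12 [1225, 2304] && (wordsIn [0, 2, 4, 6, 8] cu_l2.S && cu_l2.ok 12 m_ns m_ts [1225, 2304])) = true := by decide +kernel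
theorem cu_l3_ok : cu_l3.okT 12 m_ts [0, 2, 4, 6, 8] [1821, 1225, 2304] (.cons [0] (.cons [2] (.cons [2] (.cons [1] .nil .nil) .nil) (.cons [3] .nil .nil)) (.cons [1] (.cons [1] .nil (.cons [2] .nil (.cons [3] (.cons [1] .nil (.cons [3] .nil .nil)) .nil))) (.cons [2] (.cons [0] (.cons [0] .nil (.cons [3] .nil .nil)) (.cons [1] .nil .nil)) (.cons [3] (.cons [0] (.cons [0] .nil (.cons [2] .nil (.cons [3] .nil .nil))) (.cons [1] .nil (.cons [3] .nil .nil))) .nil)))) = true := by decide +kernel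
theorem cu_aux : cu_S.auxB [0, 2, 4, 6, 8] cu_ls [] (0 :: cu_lk) = true := by decide +kernel
theorem cu_cov : Nat.beq (Nat.land cu_l0.O (Srch.cover m_ns (invW cu_S.u') cu_R0 13)) cu_l0.O = true := by decide +kernel
theorem cu_r0 : cu_S.run (.cons [] (.cons [] (.cons [] (.cons [] (.leaf 2000) .nil) .nil) .nil) (.cons [6, 8] (.cons [3, 0, 6, 1, 4, 1, 6, 4, 6] .nil .nil) (.cons [4, 6, 8] (.cons [1, 2, 4, 6, 4, 0, 2, 4, 6] (.cons [4, 0, 2] .nil .nil) .nil) (.cons [0, 4, 6, 8] (.cons [1, 6, 0, 4, 1, 6, 4, 6] .nil .nil) (.cons [1, 4, 6, 8] (.cons [0, 6, 4, 6, 2, 1, 2, 4, 6] .nil .nil) (.cons [2, 4, 6, 8] .nil (.cons [3, 4, 6, 8] .nil (.cons [6, 4, 6, 8] (.cons [0, 0, 4, 1, 6, 4, 6, 1, 4, 6] .nil .nil) (.cons [8, 4, 6, 8] (.cons [1, 1, 4, 6, 4, 0, 6, 4, 6] (.cons [0, 2, 0, 4, 3] .nil .nil) .nil) (.cons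 [0, 6, 4, 6, 8] .nil (.cons [1, 6, 4, 6, 8] (.cons [1, 1, 1, 4, 6, 4, 2, 1, 4, 6] .nil .nil) (.cons [2, 6, 4, 6, 8] (.cons [2, 1, 4, 1, 6, 4, 6] .nil .nil) (.cons [3, 6, 4, 6, 8] .nil (.cons [8, 6, 4, 6, 8] (.cons [4, 0, 3, 6, 1, 4, 0, 6, 4, 6] (.cons [4, 1, 1, 2] .nil .nil) .nil) (.cons [0, 0, 4, 6, 8] (.cons [2, 1, 4, 6, 0, 4, 2, 1, 4, 6] .nil .nil) (.cons [3, 0, 4, 6, 8] (.cons [6, 0, 0, 4, 2, 1, 6, 4, 6] .nil .nil) (.cons [4, 0, 4, 6, 8] .nil (.cons [6, 0, 4, 6, 8] .nil (.cons [8, 0, 4, 6, 8] .nil (.cons [1, 1, 4, 6, 8] (.cons [1, 2, 4, 6, 4, 0, 2, 4, 6] .nil .nil) (.cons [2, 1, 4, 6, 8] (.cons [4, 2, 4, 1, 1, 6, 4, 6, 0, 4, 6] .nil .nil) (.cons [3, 1, 4, 6, 8] (.cons [0, 6, 4, 1, 1, 6, 4, 6] .nil .nil) (.cons [4, 1, 4, 6, 8] .nil (.cons [6, 1, 4, 6, 8] (.cons [3, 4, 1, 2, 1, 6, 4, 6] (.cons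 [4, 2, 2, 1, 2] .nil .nil) .nil) (.cons [8, 1, 4, 6, 8] (.cons [0, 0, 4, 0, 6, 4, 6] .nil .nil) (.cons [0, 8, 4, 6, 8] (.cons [2, 4, 6, 4, 0, 6, 4, 6] .nil .nil) (.cons [2, 8, 4, 6, 8] .nil (.cons [3, 8, 4, 6, 8] (.cons [1, 1, 1, 3, 4, 0, 6, 4, 6] .nil .nil) (.cons [4, 8, 4, 6, 8] .nil (.cons [6, 8, 4, 6, 8] (.cons [3, 6, 0, 4, 1, 6, 4, 6] (.cons [2, 2, 4, 3] .nil .nil) .nil) (.cons [1, 2, 4, 6, 8] (.cons [0, 6, 1, 4, 1, 6, 4, 6] .nil .nil) (.cons [2, 2, 4, 6, 8] .nil (.cons [1, 3, 4, 6, 8] (.cons [6, 3, 4, 1, 4, 6] .nil .nil) (.cons [3, 3, 4, 6, 8] (.cons [6, 4, 2, 1, 4, 6] .nil .nil) (.cons [3, 0, 8, 4, 6, 8] .nil (.cons [4, 0, 8, 4, 6, 8] (.cons [2, 1, 4, 6, 4, 6, 1, 4, 6] .nil .nil) (.cons [6, 0, 8, 4, 6, 8] .nil (.cons [8, 0, 8, 4, 6, 8] (.cons [6, 0, 4, 3, 3, 0, 6, 4, 6] .nil .nil) (.cons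 [6, 3, 3, 4, 6, 8] (.cons [6, 1, 4, 0, 6, 1, 4, 6] .nil .nil) (.cons [8, 3, 3, 4, 6, 8] (.cons [2, 1, 6, 4, 6, 3, 0, 4, 6] .nil .nil) (.cons [0, 4, 8, 4, 6, 8] .nil (.cons [1, 4, 8, 4, 6, 8] .nil (.cons [2, 4, 8, 4, 6, 8] (.cons [4, 0, 0, 0, 6, 4, 6] .nil .nil) (.cons [3, 4, 8, 4, 6, 8] (.cons [1, 4, 0, 6, 3, 0, 4, 6] .nil .nil) (.cons [6, 4, 8, 4, 6, 8] (.cons [1, 6, 4, 0, 6, 1, 4, 6] .nil .nil) (.cons [8, 4, 8, 4, 6, 8] .nil (.cons [2, 4, 1, 4, 6, 8] .nil (.cons [3, 4, 1, 4, 6, 8] (.cons [3, 3, 1, 4, 6, 1, 4, 6] (.cons [0, 2, 2, 4] .nil .nil) .nil) (.cons [6, 4, 1, 4, 6, 8] (.cons [3, 6, 4, 3, 6, 0, 0, 4, 6] .nil .nil) (.cons [0, 3, 8, 4, 6, 8] (.cons [3, 6, 1, 2, 4, 0, 6, 4, 6] .nil .nil) (.cons [1, 3, 8, 4, 6, 8] (.cons [3, 4, 1, 3, 6, 4, 6] .nil .nil) (.cons [3, 3, 8, 4, 6, 8] .nil (.cons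 [6, 3, 8, 4, 6, 8] .nil (.cons [8, 3, 8, 4, 6, 8] (.cons [6, 4, 1, 6, 4, 6, 3, 0, 4, 6] (.cons [3, 1, 4, 0, 3] .nil .nil) .nil) (.cons [3, 1, 3, 4, 6, 8] .nil (.cons [4, 1, 3, 4, 6, 8] (.cons [1, 1, 6, 4, 6, 1, 4, 6] .nil .nil) (.cons [6, 1, 3, 4, 6, 8] .nil (.cons [1, 2, 1, 4, 6, 8] .nil (.cons [4, 2, 1, 4, 6, 8] (.cons [6, 2, 4, 1, 4, 0, 6, 1, 4, 6] (.cons [2, 1, 4, 2] .nil .nil) .nil) (.cons [6, 2, 1, 4, 6, 8] .nil (.cons [8, 2, 1, 4, 6, 8] .nil (.cons [0, 2, 6, 4, 6, 8] (.cons [6, 4, 1, 4, 3, 0, 6, 4, 6] .nil .nil) (.cons [1, 2, 6, 4, 6, 8] (.cons [4, 6, 4, 1, 3, 4, 6] .nil .nil) (.cons [8, 2, 6, 4, 6, 8] .nil (.cons [6, 2, 2, 4, 6, 8] (.cons [1, 6, 2, 4, 6, 0, 4, 6] (.cons [0, 4, 2] .nil .nil) .nil) (.cons [1, 2, 0, 4, 6, 8] .nil (.cons [2, 2, 0, 4, 6, 8] (.cons [6, 1, 4, 6, 0, 0, 0, 4, 6]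 .nil .nil) (.cons [4, 2, 0, 4, 6, 8] (.cons [4, 6, 0, 4, 0, 4, 1, 6, 0, 4, 6] .nil .nil) (.cons [4, 2, 8, 4, 6, 8] .nil (.cons [1, 8, 1, 4, 6, 8] (.cons [6, 1, 4, 6, 0, 3, 0, 4, 6] .nil .nil) (.cons [2, 8, 1, 4, 6, 8] (.cons [2, 0, 4, 6, 1, 4, 6] (.cons [4, 2, 1, 4, 1, 1] .nil .nil) .nil) (.cons [6, 8, 1, 4, 6, 8] .nil (.cons [6, 8, 0, 4, 6, 8] .nil (.cons [4, 1, 2, 4, 6, 8] .nil (.cons [0, 0, 6, 4, 6, 8] .nil (.cons [3, 0, 6, 4, 6, 8] (.cons [4, 3, 6, 0, 3, 0, 4, 6] .nil .nil) (.cons [4, 0, 6, 4, 6, 8] .nil (.cons [8, 0, 6, 4, 6, 8] (.cons [4, 1, 2, 1, 6, 4, 6] (.cons [3, 1, 3, 1, 4] .nil .nil) .nil) (.cons [6, 3, 0, 4, 6, 8] .nil (.cons [0, 8, 6, 4, 6, 8] (.cons [3, 0, 6, 4, 6, 3, 0, 4, 6] .nil .nil) (.cons [3, 8, 6, 4, 6, 8] .nil (.cons [4, 8, 6, 4, 6, 8] .nil (.cons [6, 8, 6, 4, 6, 8] .nil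 (.cons [1, 6, 0, 4, 6, 8] (.cons [2, 4, 6, 0, 4, 6, 1, 4, 6] .nil .nil) (.cons [4, 6, 0, 4, 6, 8] (.cons [6, 0, 0, 4, 2, 1, 6, 4, 6] (.cons [0, 3, 4, 1, 3] .nil .nil) .nil) (.cons [8, 6, 0, 4, 6, 8] (.cons [3, 0, 4, 1, 1, 6, 4, 6] .nil .nil) (.cons [1, 1, 6, 4, 6, 8] (.cons [3, 0, 6, 4, 6, 0, 4, 6] .nil .nil) (.cons [2, 1, 6, 4, 6, 8] (.cons [1, 2, 1, 4, 1, 6, 4, 6] .nil .nil) (.cons [4, 1, 6, 4, 6, 8] (.cons [6, 3, 4, 6, 0, 4, 6, 1, 4, 6] (.cons [0, 2, 2, 4, 2, 0] .nil .nil) .nil) (.cons [0, 6, 1, 4, 6, 8] (.cons [1, 4, 6] (.cons [3, 1, 3, 3] .nil .nil) .nil) (.cons [4, 6, 1, 4, 6, 8] (.cons [0, 4, 0, 3, 0, 6, 4, 6] .nil .nil) (.cons [4, 3, 1, 4, 6, 8] .nil (.cons [1, 6, 8, 4, 6, 8] (.cons [4, 3, 6, 0, 2, 4, 6, 1, 4, 6] (.cons [3, 1, 4, 3] .nil .nil) .nil) (.cons [6, 4, 0, 4, 6, 8] (.cons [0,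 0, 2, 4, 6, 0, 4, 6, 1, 4, 6] (.cons [4, 2, 2] .nil .nil) .nil) (.cons [1, 3, 6, 4, 6, 8] .nil (.cons [8, 3, 6, 4, 6, 8] .nil (.cons [3, 1, 1, 4, 6, 8] .nil (.cons [1, 2, 4, 8, 4, 6, 8] (.cons [4, 1, 2, 4, 6, 1, 4, 6] .nil .nil) (.cons [2, 2, 4, 8, 4, 6, 8] (.cons [3, 6, 4, 0, 6, 4, 1, 6, 4, 6] .nil .nil) (.cons [3, 3, 4, 8, 4, 6, 8] .nil (.cons [6, 3, 4, 8, 4, 6, 8] (.cons [1, 3, 4, 6, 4, 1, 1, 2, 4, 6] .nil .nil) (.cons [8, 3, 4, 8, 4, 6, 8] .nil (.cons [4, 1, 6, 8, 4, 6, 8] (.cons [3, 0, 2, 4, 6, 4, 1, 3, 4, 6] .nil .nil) (.cons [8, 1, 6, 8, 4, 6, 8] (.cons [6, 0, 3, 3, 4, 1, 6, 4, 6] (.cons [0, 0, 4, 1, 2, 4] .nil .nil) .nil) (.cons [3, 0, 4, 8, 4, 6, 8] .nil (.cons [0, 4, 2, 0, 4, 6, 8] (.cons [0, 3, 3, 4, 6, 1, 4, 6] .nil .nil) (.cons [6, 4, 2, 0, 4, 6, 8] .nil (.cons [6, 4, 2, 8, 4, 6, 8]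 (.cons [6, 1, 1, 4, 6, 4, 1, 6, 4, 6] .nil .nil) (.cons [6, 1, 4, 8, 4, 6, 8] (.cons [6, 1, 2, 2, 4, 1, 6, 4, 6] .nil .nil) (.cons [3, 3, 0, 6, 4, 6, 8] .nil (.cons [0, 2, 1, 6, 4, 6, 8] (.cons [3, 1, 1, 4, 6, 0, 4, 6] (.cons [0, 2, 4, 2, 0] .nil .nil) .nil) (.cons [2, 2, 1, 6, 4, 6, 8] .nil (.cons [4, 2, 1, 6, 4, 6, 8] (.cons [2, 6, 3, 0, 4, 6, 1, 4, 6] .nil .nil) (.cons [0, 4, 2, 1, 4, 6, 8] (.cons [6, 3, 0, 4, 0, 2, 6, 4, 6] (.cons [4, 0, 2, 1, 4] .nil .nil) .nil) (.cons [0, 4, 6, 1, 4, 6, 8] (.cons [1, 4, 2, 4, 6, 4, 2, 1, 4, 6] .nil .nil) (.cons [1, 4, 6, 1, 4, 6, 8] (.cons [1, 6, 0, 4, 0, 6, 4, 6] .nil .nil) (.cons [2, 4, 6, 1, 4, 6, 8] .nil (.cons [6, 4, 6, 1, 4, 6, 8] .nil (.cons [8, 4, 6, 1, 4, 6, 8] .nil (.cons [4, 0, 0, 6, 4, 6, 8] .nil (.cons [2, 2, 8, 1, 4, 6, 8] (.cons [1, 4, 0, 2,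 4, 6, 1, 1, 4, 6] (.cons [2, 1, 4, 2, 1] .nil .nil) .nil) (.cons [6, 2, 8, 1, 4, 6, 8] (.cons [3, 3, 1, 3, 4, 0, 6, 4, 6] .nil .nil) (.cons [4, 6, 1, 3, 4, 6, 8] (.cons [6, 0, 0, 0, 4, 0, 6, 4, 6] (.cons [2, 1, 3, 3, 4] .nil .nil) .nil) (.cons [8, 6, 1, 3, 4, 6, 8] .nil (.cons [6, 8, 0, 8, 4, 6, 8] (.cons [2, 4, 1, 4, 6, 4, 6, 1, 4, 6] .nil .nil) (.cons [4, 6, 0, 0, 4, 6, 8] (.cons [0, 0, 0, 4, 2, 1, 6, 4, 6] .nil .nil) (.cons [6, 0, 3, 3, 4, 6, 8] (.cons [3, 6, 4, 1, 3, 4, 6] .nil .nil) (.cons [4, 1, 3, 6, 4, 6, 8] .nil (.cons [0, 4, 8, 6, 4, 6, 8] (.cons [2, 4, 1, 6, 0, 4, 0, 6, 4, 6] .nil .nil) (.cons [1, 4, 8, 6, 4, 6, 8] (.cons [6, 4, 6, 1, 4, 6, 4, 1, 4, 6] .nil .nil) (.cons [2, 4, 8, 6, 4, 6, 8] (.cons [4, 6, 2, 2, 4, 1, 3, 6, 4, 6] .nil .nil) (.cons [6, 4, 8, 6, 4, 6, 8] .nil (.cons [8,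 4, 8, 6, 4, 6, 8] .nil (.cons [8, 6, 3, 8, 4, 6, 8] .nil (.cons [0, 8, 6, 0, 4, 6, 8] .nil (.cons [3, 8, 6, 0, 4, 6, 8] (.cons [4, 1, 6, 0, 4, 6, 1, 4, 6] .nil .nil) (.cons [0, 8, 1, 6, 4, 6, 8] (.cons [6, 4, 1, 6, 4, 6, 3, 0, 4, 6] .nil .nil) (.cons [4, 8, 1, 6, 4, 6, 8] .nil (.cons [6, 8, 1, 6, 4, 6, 8] .nil (.cons [0, 6, 8, 6, 4, 6, 8] (.cons [1, 6, 0, 3, 4, 1, 6, 4, 6] .nil .nil) (.cons [4, 8, 2, 6, 4, 6, 8] .nil (.cons [4, 8, 0, 6, 4, 6, 8] (.cons [6, 0, 6, 4, 6, 1, 4, 6] .nil .nil) (.cons [0, 8, 6, 1, 4, 6, 8] .nil (.cons [3, 8, 6, 1, 4, 6, 8] (.cons [6, 1, 4, 6, 0, 4, 6, 3, 0, 4, 6] .nil .nil) (.cons [4, 8, 6, 1, 4, 6, 8] .nil (.cons [6, 8, 6, 1, 4, 6, 8] .nil (.cons [0, 4, 1, 6, 4, 6, 8] .nil (.cons [2, 4, 1, 6, 4, 6, 8] (.cons [1, 3, 4, 2, 1, 2, 6, 4, 6] .nil .nil) (.cons [6, 4, 1, 6,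 4, 6, 8] (.cons [4, 1, 1, 4, 1, 3, 6, 4, 6] .nil .nil) (.cons [0, 4, 6, 8, 4, 6, 8] (.cons [2, 0, 0, 4, 1, 6, 4, 3, 1, 4, 6] .nil .nil) (.cons [1, 4, 6, 8, 4, 6, 8] (.cons [1, 6, 4, 6, 3, 0, 4, 6] .nil .nil) (.cons [8, 4, 6, 8, 4, 6, 8] (.cons [0, 0, 4, 6, 0, 4, 6, 1, 4, 6] (.cons [3, 1, 4, 2] .nil .nil) .nil) (.cons [8, 6, 2, 1, 4, 6, 8] (.cons [2, 1, 4, 2, 1, 6, 4, 6] .nil .nil) (.cons [6, 3, 4, 1, 4, 6, 8] .nil (.cons [0, 6, 3, 0, 4, 6, 8] (.cons [1, 6, 4, 0, 2, 6, 4, 6] .nil .nil) (.cons [4, 6, 3, 0, 4, 6, 8] .nil (.cons [8, 6, 3, 0, 4, 6, 8] (.cons [0, 4, 6, 2, 1, 4, 6] .nil .nil) (.cons [6, 1, 3, 8, 4, 6, 8] (.cons [0, 6, 1, 4, 1, 6, 4, 6] .nil .nil) (.cons [4, 6, 4, 0, 4, 6, 8] (.cons [0, 4, 1, 2, 6, 4, 6] .nil .nil) (.cons [6, 4, 1, 3, 4, 6, 8] (.cons [1, 4, 6, 4, 3, 1, 4, 6] .nil .nil)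 (.cons [8, 6, 4, 8, 4, 6, 8] .nil (.cons [4, 6, 0, 8, 4, 6, 8] .nil (.cons [8, 6, 3, 3, 4, 6, 8] .nil (.cons [0, 4, 6, 0, 4, 6, 8] (.cons [4, 1, 6, 3, 1, 1, 4, 6] .nil .nil) (.cons [1, 4, 6, 0, 4, 6, 8] .nil (.cons [2, 4, 6, 0, 4, 6, 8] .nil (.cons [4, 3, 8, 6, 4, 6, 8] .nil (.cons [4, 0, 8, 6, 4, 6, 8] .nil (.cons [4, 6, 1, 1, 4, 6, 8] (.cons [6, 2, 4, 1, 6, 4, 6] (.cons [1, 1, 2] .nil .nil) .nil) (.cons [3, 4, 0, 6, 4, 6, 8] (.cons [3, 0, 6, 4, 6, 1, 4, 6] .nil .nil) (.cons [8, 4, 0, 6, 4, 6, 8] (.cons [0, 2, 4, 6, 4, 1, 2, 6, 4, 6] .nil .nil) (.cons [0, 2, 4, 6, 0, 4, 6, 8] (.cons [1, 1, 4, 6, 4, 1, 3, 4, 6] .nil .nil) (.cons [8, 2, 4, 6, 0, 4, 6, 8] .nil (.cons [4, 6, 4, 2, 0, 4, 6, 8] .nil (.cons [8, 6, 4, 2, 0, 4, 6, 8] (.cons [1, 6, 4, 0, 2, 4, 6] .nil .nil) (.cons [3, 6, 4, 2, 8, 4, 6,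 8] .nil (.cons [4, 6, 4, 2, 8, 4, 6, 8] .nil (.cons [8, 6, 4, 2, 8, 4, 6, 8] (.cons [2, 2, 4, 0, 2, 6, 4, 6] .nil .nil) (.cons [3, 1, 4, 6, 8, 4, 6, 8] .nil (.cons [6, 1, 4, 6, 8, 4, 6, 8] (.cons [2, 1, 2, 4, 0, 0, 6, 4, 6] .nil .nil) (.cons [8, 1, 4, 6, 8, 4, 6, 8] (.cons [2, 1, 6, 4, 1, 6, 0, 4, 6] .nil .nil) (.cons [1, 6, 4, 3, 1, 4, 6, 8] (.cons [3, 4, 1, 3, 0, 6, 4, 6] .nil .nil) (.cons [4, 6, 4, 3, 1, 4, 6, 8] .nil (.cons [3, 6, 4, 1, 3, 4, 6, 8] (.cons [1, 4, 6, 4, 0, 0, 6, 4, 6] .nil .nil) (.cons [4, 6, 2, 4, 8, 4, 6, 8] (.cons [6, 0, 0, 0, 4, 6, 1, 4, 6] .nil .nil) (.cons [8, 6, 2, 4, 8, 4, 6, 8] .nil (.cons [6, 1, 2, 4, 8, 4, 6, 8] .nil (.cons [6, 2, 4, 6, 8, 4, 6, 8] .nil (.cons [8, 2, 4, 6, 8, 4, 6, 8] .nil (.cons [4, 3, 4, 6, 8, 4, 6, 8] (.cons [6, 4, 1, 4, 6, 1, 3, 4, 6] .nil .nil)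 (.cons [6, 3, 4, 6, 8, 4, 6, 8] .nil (.cons [8, 6, 8, 4, 8, 4, 6, 8] .nil (.cons [4, 6, 1, 4, 8, 4, 6, 8] (.cons [4, 0, 6, 4, 1, 3, 6, 4, 6] .nil .nil) (.cons [8, 6, 1, 4, 8, 4, 6, 8] .nil (.cons [4, 1, 6, 0, 0, 4, 6, 8] (.cons [1, 3, 4, 2, 1, 2, 6, 4, 6] (.cons [4, 2, 1] .nil .nil) .nil) (.cons [6, 4, 6, 1, 3, 4, 6, 8] (.cons [1, 3, 4, 6, 4, 1, 3, 4, 6] (.cons [1, 2, 4, 0, 2] (.cons [3, 3] (.leaf 0) .nil) .nil) .nil) (.cons [0, 2, 4, 6, 1, 4, 6, 8] (.cons [0, 0, 6, 0, 4, 2, 1, 6, 4, 6] (.cons [2, 0, 2, 2] .nil .nil) .nil) (.cons [1, 2, 4, 6, 1, 4, 6, 8] .nil (.cons [4, 2, 4, 6, 1, 4, 6, 8] (.cons [0, 4, 2, 6, 4, 2, 0, 4, 6] (.cons [4, 2, 4, 1, 2, 1] .nil .nil) .nil) (.cons [6, 2, 4, 6, 1, 4, 6, 8] (.cons [6, 2, 2, 1, 4, 1, 6, 4, 6] .nil .nil) (.cons [2, 4, 0, 2, 6, 4, 6, 8] (.cons [4, 3, 4, 6,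 0, 4, 6] .nil .nil) (.cons [1, 4, 6, 4, 8, 4, 6, 8] .nil (.cons [2, 4, 6, 4, 8, 4, 6, 8] (.cons [4, 1, 4, 6, 0, 4, 6, 0, 4, 6] .nil .nil) (.cons [0, 4, 6, 8, 1, 4, 6, 8] .nil (.cons [1, 4, 6, 8, 1, 4, 6, 8] .nil (.cons [8, 4, 6, 8, 1, 4, 6, 8] .nil (.cons [8, 4, 3, 0, 6, 4, 6, 8] (.cons [3, 0, 0, 4, 0, 6, 4, 6] .nil .nil) (.cons [1, 4, 6, 4, 1, 4, 6, 8] (.cons [1, 1, 4, 6, 4, 0, 0, 6, 4, 6] .nil .nil) (.cons [8, 4, 6, 4, 1, 4, 6, 8] .nil (.cons [1, 4, 2, 1, 6, 4, 6, 8] .nil (.cons [6, 8, 4, 0, 6, 4, 6, 8] .nil (.cons [4, 6, 0, 3, 3, 4, 6, 8] (.cons [6, 4, 1, 4, 3, 0, 6, 4, 6] .nil .nil) (.cons [6, 4, 1, 1, 6, 4, 6, 8] (.cons [6, 4, 0, 4, 6, 2, 1, 4, 6] .nil .nil) (.cons [0, 4, 1, 3, 6, 4, 6, 8] (.cons [1, 4, 2, 0, 4, 6] .nil .nil) (.cons [2, 4, 1, 3, 6, 4, 6, 8] .nil (.cons [3, 4, 1, 3, 6, 4, 6,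 8] .nil (.cons [6, 4, 1, 3, 6, 4, 6, 8] (.cons [6, 1, 2, 2, 4, 6, 0, 4, 6] .nil .nil) (.cons [3, 4, 6, 0, 8, 4, 6, 8] .nil (.cons [0, 4, 6, 8, 0, 4, 6, 8] (.cons [0, 0, 4, 6, 1, 2, 4, 0, 6, 4, 6] .nil .nil) (.cons [0, 3, 4, 0, 6, 4, 6, 8] .nil (.cons [0, 8, 4, 6, 0, 4, 6, 8] (.cons [3, 4, 1, 6, 4, 0, 6, 4, 6] .nil .nil) (.cons [1, 4, 8, 6, 0, 4, 6, 8] (.cons [1, 4, 1, 6, 4, 6, 3, 0, 4, 6] .nil .nil) (.cons [0, 4, 6, 8, 6, 4, 6, 8] .nil (.cons [3, 4, 6, 8, 6, 4, 6, 8] (.cons [3, 1, 6, 4, 6, 1, 1, 4, 6] .nil .nil) (.cons [6, 0, 4, 6, 0, 4, 6, 8] .nil (.cons [6, 4, 2, 8, 6, 4, 6, 8] (.cons [4, 1, 2, 4, 0, 2, 6, 4, 6] (.cons [3, 0, 3, 4] .nil .nil) .nil) (.cons [3, 0, 4, 6, 1, 4, 6, 8] (.cons [1, 1, 1, 4, 1, 3, 6, 4, 6] .nil .nil) (.cons [4, 0, 8, 0, 6, 4, 6, 8] .nil (.cons [8, 3, 4, 6, 0, 4, 6, 8]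 .nil (.cons [2, 4, 8, 0, 6, 4, 6, 8] .nil (.cons [0, 6, 4, 6, 8, 4, 6, 8] (.cons [0, 0, 4, 3, 0, 6, 4, 6] .nil .nil) (.cons [0, 2, 4, 8, 6, 4, 6, 8] .nil (.cons [4, 2, 4, 8, 6, 4, 6, 8] (.cons [2, 0, 0, 4, 6, 1, 4, 6] .nil .nil) (.cons [6, 2, 4, 8, 6, 4, 6, 8] (.cons [6, 0, 6, 4, 1, 6, 4, 6] (.cons [3, 1, 3, 4, 1, 1] .nil .nil) .nil) (.cons [0, 4, 1, 6, 0, 4, 6, 8] (.cons [3, 4, 1, 6, 4, 6] .nil .nil) (.cons [1, 4, 1, 6, 0, 4, 6, 8] .nil (.cons [2, 4, 1, 6, 0, 4, 6, 8] (.cons [0, 6, 1, 4, 6] .nil .nil) (.cons [6, 1, 4, 6, 0, 4, 6, 8] .nil (.cons [6, 4, 8, 6, 1, 4, 6, 8] .nil (.cons [0, 0, 4, 0, 6, 4, 6, 8] .nil (.cons [2, 0, 4, 0, 6, 4, 6, 8] .nil (.cons [0, 8, 4, 8, 6, 4, 6, 8] .nil (.cons [6, 3, 4, 8, 6, 4, 6, 8] (.cons [6, 4, 0, 4, 6, 0, 4, 3, 1, 4, 6] .nil .nil) (.cons [2, 2, 4, 1, 6, 4, 6,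 8] .nil (.cons [6, 2, 4, 1, 6, 4, 6, 8] .nil (.cons [0, 4, 1, 6, 8, 4, 6, 8] (.cons [0, 2, 4, 6, 4, 0, 6, 4, 6] .nil .nil) (.cons [1, 4, 1, 6, 8, 4, 6, 8] .nil (.cons [0, 6, 4, 8, 6, 4, 6, 8] (.cons [3, 1, 4, 1, 6, 4, 6, 1, 4, 6] .nil .nil) (.cons [1, 6, 4, 8, 6, 4, 6, 8] .nil (.cons [8, 6, 4, 8, 6, 4, 6, 8] (.cons [2, 0, 4, 6, 1, 1, 4, 6] (.cons [3, 4] .nil .nil) .nil) (.cons [6, 4, 8, 2, 6, 4, 6, 8] .nil (.cons [0, 6, 4, 1, 6, 4, 6, 8] .nil (.cons [8, 6, 0, 4, 8, 4, 6, 8] .nil (.cons [2, 1, 4, 6, 1, 4, 6, 8] .nil (.cons [1, 1, 4, 8, 6, 4, 6, 8] (.cons [4, 6] .nil .nil) (.cons [4, 6, 8, 6, 0, 4, 6, 8] (.cons [3, 4, 6, 1, 4, 1, 6, 0, 4, 6] (.cons [2, 4, 1, 4, 3] .nil .nil) .nil) (.cons [2, 4, 6, 1, 1, 4, 6, 8] (.cons [6, 3, 4, 1, 6, 4, 0, 6, 4, 6] .nil .nil) (.cons [4, 2, 8, 6, 1, 4, 6, 8] (.cons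 [6, 4, 1, 2, 6, 4, 6, 0, 4, 6] (.cons [4, 3, 3, 0] .nil .nil) .nil) (.cons [1, 4, 6, 4, 3, 1, 4, 6, 8] (.cons [0, 4, 6, 4, 0, 6, 4, 6] .nil .nil) (.cons [2, 4, 6, 2, 4, 8, 4, 6, 8] (.cons [2, 1, 2, 4, 0, 0, 6, 4, 6] (.cons [4, 2, 2, 4] .nil .nil) .nil) (.cons [3, 4, 6, 2, 4, 8, 4, 6, 8] (.cons [3, 3, 4, 0, 6, 4, 6] .nil .nil) (.cons [0, 8, 6, 4, 6, 1, 4, 6, 8] (.cons [1, 4, 0, 0, 4, 6] (.cons [0, 0, 4, 3] .nil .nil) .nil) (.cons [0, 6, 0, 4, 1, 6, 4, 6, 8] (.cons [1, 6, 4, 0, 2, 4, 6] .nil .nil) (.cons [4, 6, 1, 1, 4, 8, 4, 6, 8] (.cons [3, 6, 4, 6, 4, 1, 1, 2, 4, 6] (.cons [1, 2, 4, 2, 0, 2] .nil .nil) .nil) (.cons [8, 6, 2, 4, 6, 8, 4, 6, 8] .nil (.cons [4, 6, 8, 4, 1, 6, 4, 6, 8] .nil (.cons [4, 1, 6, 4, 3, 1, 4, 6, 8] .nil (.cons [6, 3, 4, 6, 8, 1, 4, 6, 8] (.cons [6, 2, 1, 4, 6] .nil .nil)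 (.cons [6, 4, 6, 1, 8, 1, 4, 6, 8] (.cons [2, 1, 4, 2, 1, 6, 4, 6] (.cons [3, 4, 3, 1, 4, 0] .nil .nil) .nil) (.cons [6, 8, 3, 4, 6, 8, 4, 6, 8] .nil (.cons [3, 1, 2, 4, 6, 1, 4, 6, 8] .nil (.cons [4, 1, 2, 4, 6, 1, 4, 6, 8] .nil (.cons [8, 6, 3, 4, 8, 6, 4, 6, 8] .nil (.cons [6, 4, 3, 4, 6, 8, 4, 6, 8] .nil (.cons [0, 2, 2, 4, 8, 6, 4, 6, 8] (.cons [0, 0, 4, 6, 0, 4, 6, 1, 4, 6] .nil .nil) (.cons [8, 4, 0, 8, 2, 6, 4, 6, 8] (.cons [0, 4, 3, 1, 4, 6] (.cons [4, 3] .nil .nil) .nil) (.cons [6, 1, 8, 4, 8, 6, 4, 6, 8] .nil (.cons [4, 2, 4, 6, 2, 1, 4, 6, 8] (.cons [0, 4, 2, 6, 4, 6, 0, 0, 4, 6] .nil .nil) (.cons [6, 3, 4, 8, 2, 6, 4, 6, 8] (.cons [4, 6, 4, 1, 3, 4, 6] (.cons [1, 1, 4, 1] .nil .nil) .nil) (.cons [1, 6, 0, 4, 8, 6, 4, 6, 8] (.cons [4, 0, 6, 4, 1, 1, 6, 4, 6] .nil .nil) (.cons [6, 1,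 3, 4, 6, 0, 4, 6, 8] (.cons [4, 3, 1, 4, 6, 0, 4, 6] .nil .nil) (.cons [1, 6, 8, 4, 6, 8, 4, 6, 8] .nil (.cons [6, 1, 4, 8, 0, 6, 4, 6, 8] .nil (.cons [6, 8, 1, 4, 8, 6, 4, 6, 8] .nil (.cons [4, 1, 6, 4, 6, 1, 4, 6, 8] (.cons [0, 0, 0, 4, 6, 4, 0, 2, 4, 6] .nil .nil) (.cons [6, 0, 4, 8, 0, 6, 4, 6, 8] .nil (.cons [2, 4, 6, 4, 0, 6, 4, 6, 8] (.cons [0, 3, 4, 6, 2, 4, 6, 1, 3, 4, 6] (.cons [3, 3, 4, 2, 1] .nil .nil) .nil) (.cons [3, 8, 6, 4, 6, 8, 4, 6, 8] (.cons [6, 0, 4, 6, 4, 1, 3, 4, 6] .nil .nil) (.cons [4, 8, 6, 4, 6, 8, 0, 4, 6, 8] (.cons [0, 0, 4, 6] .nil .nil) (.cons [0, 0, 4, 6, 4, 8, 6, 4, 6, 8] (.cons [2, 1, 2, 6, 4, 6] .nil .nil) .nil))))))))))))))))))))))))))))))))))))))))))))))))))))))))))))))))))))))))))))))))))))))))))))))))))))))))))))))))))))))))))))))))))))))))))))))))))))))))))))))))))))))))))))))))))))))))))))))))))))))))))))))))))))))))))))))))))))))))))))))))))))))))))))))))))))))))))))))))))))))))))))))))))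 (⟨cu_l0.b, cu_l0.S, [], cu_R0, 0⟩ :: cu_tl) (0 :: cu_lk) Pd.nil 0 = true := by decide +kernel
theorem cu_sound {G : Type*} [Group G] {φ : G →* Equiv.Perm ℕ} {γ : ℕ → G}
    (M : Model φ γ 12 m_ns m_ts) : ChainSound φ (gp γ [0, 2, 4, 6, 8]) 12 [] cu_ls :=
  ⟨Level.ok_sound' M cu_l0_ok,
   Level.ok_sound' M cu_l1_ok,
   Level.ok_sound' M cu_l2_ok,
   Level.okT_sound M cu_l3_ok, trivial⟩
theorem cu_cent {G : Type*} [Group G] {φ : G →* Equiv.Perm ℕ} {γ : ℕ → G}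
    (C : Cert φ γ 12 m_ns m_ts [0, 2, 4, 6, 8] c_ls) : Cent γ cu_S.u cu_S.Cl 13 :=
  have X := (C.rechain (cu_sound C.M) (by decide +kernel)).exact
  have A := Srch.auxB_sound (S := cu_S) C.M (K := ⊤) le_top rfl cu_aux
  have F := fun {tr : Tr} {R : ℕ} => Srch.found_of_run (S := cu_S) C.M C.base (by decide +kernel) X A (tr := tr) (R := R)
  Cent.of_found (S := cu_S) C.M X rfl (F cu_r0) cu_cov

end Cfsg.Agent.RuC
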