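import Cfsg.Agent.RuC.Cert
import Cfsg.Agent.CGT.Out

set_option autoImplicit false
set_option Elab.async false
set_option maxRecDepth 100000
set_option linter.all false

namespace Cfsg.Agent.RuC
open Cfsg.Agent.CGT

noncomputable def cx_l0 : Level := ⟨2304, [[0], [2], [4], [6], [8]], [4, 3, 2, 0, 1, 3, 4, 2, 0, 3, 1, 2, 4, 3, 0, 1, 2, 4, 3, 2, 0, 1, 0, 0], 0xffffffffffffffffffffffffffffffffffffffffffffffffffffffffffffffffffffffffffffffffffffffffffffffffffffffffffffffffffffffffffffffffffffffffffffffffffffffffffffffffffffffffffffffffffffffffffffffffffffffffffffffffffffffffffffffffffffffffffffffffffffffffffffffffffffffffffffffffffffffffffffffffffffffffffffffffffffffffffffffffffffffffffffffffffffffffffffffffffffffffffffffffffffffffffffffffffffffffffffffffffffffffffffffffffffffffffffffffffffffffffffffffffffffffffffffffffffffffffffffffffffffffffffffffffffff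fffffffffffffffffffffffffffffffffffffffffffffffffffffffffffffffffffffffffffffffffffffffffffffffffffffffffffffffffffffffffffffffffffffffffffffffffffffffffffffffffffffffffffffffffffffffffffffffffffffffffffffffffffffffffffffffffffffffffffffffffffffffffffffffffffffffffffffffffffffffffffffffffffffffffffffffffffffffffffffffffffffffffffffffffffffffffffffffffffffffffffffffffffffffffffffffffffffffffffffffffffffffffffffffffffffffffffffffffffffffffffffffffffffffffffffffffffffffffffffffffffffffffffffffffffffffffffffffff, 4060⟩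
noncomputable def cx_l1 : Level := ⟨1225, [[0], [2], [4], [6]], [3, 2, 0, 1, 3, 2, 0, 1, 3, 2, 0, 1, 2, 3, 0, 1, 2, 3, 0, 1, 2, 0], 0xffffffffffffffffffffffffffffffffffffffffffffffffffffffffffffffffffffffffffffffffffffffffffffffffffffffffffffffffffffffffffffffffffffffffffffffffffffffffffffffffffffffffffffffffffffffffffffffffffffffffffffffffffffffffffffffffffffffffffffffffffffffffffffffffffffffffffffffffffffffffffffffffffffffffffffffffffffffffffffffffffffffffffffffffffffffffffffffffffffffffffffffffffffffffffffffffffffffffffffffffffffffffffffffffffffffffffffffffffffffffffffffffffffffffffffffffffffffffffffffffffffffffffffffffffffffffffffffffffffffffffffffffffffffffffffffffffffffffffffffffffffffffffffffff, 2304⟩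
noncomputable def cx_l2 : Level := ⟨2853, [[0], [2], [4]], [0, 1, 2, 0, 1, 0, 2, 1, 0, 1, 2, 0, 1, 2, 0], 0x6fa6a7db117e7b2bdd8ebc8bede27b4d7e17db141b7282bbe1d27722392f745235237b9061c60bae1fbb89f6fcffe3634f3cc61a5f6549061a9f6aa9b9c50cccca39e6afb0df99565f8f1f7753b6ee0b908a12ec6236f8a12cbb89fb11a97d6efba3c369ddc45109d77af1be77bd7989cab2a31af987e9b3456e4aad4e37c664ed39fd17d994c847fce4f2ddb16fd6e85b6e23a5c2e9bb709d16fa21efb53b6fde636aaac5651e0ab1ae39f0496f7a9b6f776fa5a516fb649704fa5ba36fda3bd03d7ba51ba3116e9d05bae4f2dd14c7f646705cf352c9dae667f7a000000000000000000000000000000000000000000000000000000000000000000000000000000000000000000000000000000000000000000000000000000000000000000000000000000000000000000000000000000000000000000000000000000000000000000000000000000000000000000000000000000000000000000000000000000000000000000000000000000000000000000000000000000000000000000000000000000000000000000000000000000000000000000000000000000000000000000000000000000000000000000000000000000000000000000000000000000000000000000000000000000000000000000000000000000000000000000000000000000000000000000000000000000000000000000000000,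 975⟩
noncomputable def cx_l3 : Level := ⟨247, [[0, 2, 4, 0, 0, 0], [3, 3, 0, 4, 0, 3, 1], [4, 0, 4, 1, 2, 1, 1, 1]], [], 0x80000000800000000000008000000000000000000000000000000402000100000400000000000000000000000000000000020000000000000000000000000000000000000000000000000000000000000000000000000000000000000000000000000000000000000000000000000200000000100000000000000000000000000000000000000000000000000000000000000000000000000000000000000000000000000000040000000000002000040000000000000000000000000000000000000000000000000000000000000200000000000000000000000000000000000000000000000000000000000000000000000000000000080000000000000000000200000000000000000000000000000000000000000, 16⟩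
noncomputable def cx_ls : List Level := [cx_l0, cx_l1, cx_l2, cx_l3]
noncomputable def cx_S : Srch := ⟨12, m_ts, (chainBase [] c_ls), [8, 6, 4, 6, 0, 4, 6, 2, 4, 0, 2, 0], [8, 6, 4, 6, 0, 4, 6, 2, 4, 0, 2, 0], []⟩
noncomputable def cx_lk : List ℕ := [2305, 1226, 2854]
noncomputable def cx_tl : List Level := [cx_l1, cx_l2, cx_l3]
noncomputable def cx_R0 : ℕ := 0x2000000000000000000000000000000000000000000000000000000000000000000000000000000000000000000000000000000000000000000000000000000000000000000000000000000000000000000000000000000000000000000000000000000000000000000000000000000000000000000000000000000000000000000000000000000000000000000000000000000000000000000000000000000000000000000000000000000000000000000000000000000000000000000000000000000000010020000000000018000000010880004000000108001000200000008000000000041008000080010001400000000000020000080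004040020400000000000002008001100202004000000002a0004100000000080004400000000080004000800040010000040000000000020010200000088000020000010800000004000400009010000000090100841000000000000400000093000000004100021080080040004800002120010000000000040006004200400000800000000000080404002000100000000000004200040000000000002000040400000000400100000080000002000000000000000000000000400040000000410000024714200008080188000000000000001000000008840000000801000480000400400812110020000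
theorem cx_l0_ok : (ptsOK 12 [] && (wordsIn [0, 2, 4, 6, 8] cx_l0.S && cx_l0.ok 12 m_ns m_ts [])) = true := by decide +kernel
theorem cx_l1_ok : (ptsOK 12 [2304] && (wordsIn [0, 2, 4, 6, 8] cx_l1.S && cx_l1.ok 12 m_ns m_ts [2304])) = true := by decide +kernel
theorem cx_l2_ok : (ptsOK 12 [1225, 2304] && (wordsIn [0, 2, 4, 6, 8] cx_l2.S && cx_l2.ok 12 m_ns m_ts [1225, 2304])) = true := by decide +kernel
theorem cx_l3_ok : cx_l3.okT 12 m_ts [0, 2, 4, 6, 8] [2853, 1225, 2304] (.cons [0] (.cons [4] .nil .nil) (.cons [1] (.cons [1] .nil (.cons [2] .nil (.cons [3] .nil (.cons [5] .nil .nil)))) (.cons [2] (.cons [4] .nil (.cons [5] .nil .nil)) (.cons [3] (.cons [4] .nil (.cons [5] .nil .nil)) (.cons [4] .nil (.cons [5] .nil .nil)))))) = true := by decide +kernel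
theorem cx_aux : cx_S.auxB [0, 2, 4, 6, 8] cx_ls [] (0 :: cx_lk) = true := by decide +kernel
theorem cx_cov : Nat.beq (Nat.land cx_l0.O (Srch.cover m_ns (invW cx_S.u') cx_R0 28)) cx_l0.O = true := by decide +kernel
theorem cx_r0 : cx_S.run (.cons [] (.cons [] (.cons [] (.cons [] (.leaf 2000) .nil) .nil) .nil) (.cons [6, 8] (.cons [0, 2, 1, 6, 4, 6] .nil .nil) (.cons [4, 6, 8] .nil (.cons [0, 4, 6, 8] (.cons [4, 1, 2, 0, 4, 6, 0, 4, 6] (.cons [3, 3, 1, 3, 4, 0] .nil .nil) .nil) (.cons [1, 4, 6, 8] (.cons [2, 1, 4, 6, 4, 6, 1, 4, 6] .nil .nil) (.cons [2, 4, 6, 8] .nil (.cons [3, 4, 6, 8] (.cons [4, 6, 4, 0, 0, 4, 6, 0, 4, 6] (.cons [4, 0, 2, 4, 1, 1] .nil .nil) .nil) (.cons [8, 4, 6, 8] .nil (.cons [0, 6, 4, 6, 8] .nil (.cons [1, 6, 4, 6, 8] .nil (.cons [2, 6, 4, 6, 8] .nil (.cons [2, 0, 4, 6, 8] .nil (.cons [3, 0, 4, 6, 8] .nil (.cons [4, 0, 4, 6, 8] (.cons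 [1, 6, 4, 0, 6, 4, 6, 2, 1, 4, 6] (.cons [1, 1, 4, 3] .nil .nil) .nil) (.cons [6, 0, 4, 6, 8] (.cons [3, 3, 1, 6, 4, 6, 1, 4, 6] .nil .nil) (.cons [8, 0, 4, 6, 8] .nil (.cons [1, 1, 4, 6, 8] (.cons [3, 0, 4, 2, 6, 4, 2, 0, 4, 6] .nil .nil) (.cons [2, 1, 4, 6, 8] .nil (.cons [3, 1, 4, 6, 8] (.cons [2, 1, 2, 4, 6] .nil .nil) (.cons [4, 1, 4, 6, 8] (.cons [1, 6, 4, 0, 3, 0, 6, 4, 6] .nil .nil) (.cons [8, 1, 4, 6, 8] (.cons [1, 3, 4, 0, 6, 1, 4, 6] .nil .nil) (.cons [0, 8, 4, 6, 8] .nil (.cons [2, 8, 4, 6, 8] .nil (.cons [3, 8, 4, 6, 8] .nil (.cons [6, 8, 4, 6, 8] .nil (.cons [2, 2, 4, 6, 8] (.cons [4, 1, 1, 4, 6, 4, 6, 1, 4, 6] .nil .nil) (.cons [1, 3, 4, 6, 8] .nil (.cons [3, 3, 4, 6, 8] .nil (.cons [4, 0, 8, 4, 6, 8] (.cons [1, 3, 4, 6, 4, 6, 2, 1, 4, 6] (.cons [2, 4, 0, 3, 1, 4] .nil .nil) .nil) (.cons [6, 0, 8, 4, 6, 8] (.cons [2, 0, 3, 3, 4, 6, 0, 4,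 6] .nil .nil) (.cons [8, 0, 8, 4, 6, 8] .nil (.cons [0, 3, 3, 4, 6, 8] (.cons [1, 1, 4, 6, 0, 4, 6, 1, 4, 6] .nil .nil) (.cons [8, 3, 3, 4, 6, 8] (.cons [6, 4, 1, 4, 6, 4, 6, 1, 4, 6] .nil .nil) (.cons [2, 4, 8, 4, 6, 8] (.cons [2, 1, 1, 4, 6, 4, 1, 4, 6] .nil .nil) (.cons [3, 4, 8, 4, 6, 8] (.cons [4, 1, 3, 4, 6, 1, 4, 6] .nil .nil) (.cons [6, 4, 8, 4, 6, 8] (.cons [0, 0, 0, 4, 6, 1, 4, 6] .nil .nil) (.cons [8, 4, 8, 4, 6, 8] (.cons [0, 4, 6, 0, 0, 0, 4, 6, 1, 4, 6] .nil .nil) (.cons [2, 4, 1, 4, 6, 8] (.cons [2, 4, 6, 4, 0, 2, 4, 6] (.cons [4, 1, 1, 3] .nil .nil) .nil) (.cons [3, 4, 1, 4, 6, 8] (.cons [0, 0, 3, 0, 4, 6] (.cons [1, 4, 1, 1, 1, 2] .nil .nil) .nil) (.cons [6, 4, 1, 4, 6, 8] .nil (.cons [1, 3, 8, 4, 6, 8] .nil (.cons [3, 3, 8, 4, 6, 8] (.cons [0, 2, 4, 1, 1, 6, 4, 6] .nil .nil) (.cons [8, 3, 8, 4, 6, 8] (.cons [2, 4, 6, 2, 4, 6, 0, 4, 6]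 .nil .nil) (.cons [3, 1, 3, 4, 6, 8] .nil (.cons [4, 2, 1, 4, 6, 8] (.cons [3, 1, 3, 1, 4, 6, 1, 4, 6] (.cons [4, 3, 1, 4, 0, 4, 2] .nil .nil) .nil) (.cons [8, 2, 1, 4, 6, 8] (.cons [2, 6, 4, 6] .nil .nil) (.cons [0, 2, 6, 4, 6, 8] (.cons [2, 1, 4, 6, 4, 2, 1, 4, 6] .nil .nil) (.cons [8, 2, 6, 4, 6, 8] .nil (.cons [1, 2, 2, 4, 6, 8] (.cons [2, 0, 6, 4, 6, 3, 0, 4, 6] .nil .nil) (.cons [6, 2, 2, 4, 6, 8] (.cons [4, 2, 6, 1, 4, 1, 6, 4, 6] .nil .nil) (.cons [4, 2, 0, 4, 6, 8] (.cons [0, 6, 2, 4, 6, 0, 4, 6] (.cons [4, 0, 4, 1] .nil .nil) .nil) (.cons [1, 8, 1, 4, 6, 8] (.cons [6, 1, 3, 4, 6, 4, 2, 1, 4, 6] .nil .nil) (.cons [4, 1, 2, 4, 6, 8] .nil (.cons [3, 0, 6, 4, 6, 8] .nil (.cons [4, 0, 6, 4, 6, 8] (.cons [3, 4, 1, 6, 0, 4, 0, 6, 4, 6] (.cons [4, 0, 0, 4, 2] .nil .nil) .nil) (.cons [6, 3, 0, 4, 6, 8] (.cons [4, 3, 0, 4, 1, 6, 0, 4, 6] (.cons [1, 2,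 2, 4, 0, 0] .nil .nil) .nil) (.cons [0, 8, 6, 4, 6, 8] (.cons [3, 4, 2, 1, 6, 4, 6] (.cons [3, 4, 2, 4, 3] .nil .nil) .nil) (.cons [2, 8, 6, 4, 6, 8] (.cons [1, 4, 6, 1, 4, 6, 4, 1, 4, 6] .nil .nil) (.cons [3, 8, 6, 4, 6, 8] .nil (.cons [4, 8, 6, 4, 6, 8] .nil (.cons [6, 8, 6, 4, 6, 8] .nil (.cons [1, 6, 0, 4, 6, 8] .nil (.cons [8, 6, 0, 4, 6, 8] (.cons [4, 1, 1, 4, 6, 0, 4, 6] .nil .nil) (.cons [2, 1, 6, 4, 6, 8] (.cons [0, 3, 0, 4, 6, 1, 4, 6] .nil .nil) (.cons [8, 1, 6, 4, 6, 8] .nil (.cons [8, 6, 1, 4, 6, 8] .nil (.cons [1, 6, 8, 4, 6, 8] (.cons [0, 4, 6, 1, 2, 4, 0, 6, 4, 6] (.cons [0, 4, 1, 1, 3] .nil .nil) .nil) (.cons [6, 4, 0, 4, 6, 8] (.cons [6, 1, 3, 4, 0, 0, 0, 6, 4, 6] .nil .nil) (.cons [3, 1, 1, 4, 6, 8] (.cons [2, 1, 2, 4, 0, 6, 4, 6] (.cons [3, 1, 4, 0, 0, 3] .nil .nil) .nil) (.cons [6, 2, 4, 8, 4, 6, 8] (.cons [0, 0, 0, 6, 4, 0, 6, 4,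 6] .nil .nil) (.cons [3, 3, 4, 8, 4, 6, 8] .nil (.cons [6, 3, 4, 8, 4, 6, 8] (.cons [4, 3, 6, 1, 4, 1, 1, 6, 4, 6] (.cons [1, 3, 4, 3, 3, 4] .nil .nil) .nil) (.cons [8, 1, 6, 8, 4, 6, 8] (.cons [2, 4, 6, 3, 4, 3, 0, 2, 4, 6] (.cons [3, 3, 1, 4, 1] .nil .nil) .nil) (.cons [3, 0, 4, 8, 4, 6, 8] (.cons [1, 1, 1, 3, 4, 0, 6, 4, 6] (.cons [2, 4, 3, 3, 0] .nil .nil) .nil) (.cons [3, 4, 2, 0, 4, 6, 8] .nil (.cons [6, 4, 2, 0, 4, 6, 8] (.cons [2, 2, 1, 6, 0, 4, 6, 1, 4, 6] (.cons [4, 2, 4, 3] .nil .nil) .nil) (.cons [8, 3, 0, 6, 4, 6, 8] .nil (.cons [4, 1, 2, 6, 4, 6, 8] (.cons [1, 4, 6, 1, 1, 4, 6] (.cons [1, 3, 1, 3] .nil .nil) .nil) (.cons [8, 1, 2, 6, 4, 6, 8] (.cons [6, 4, 3, 0, 6, 4, 1, 6, 4, 6] (.cons [0, 3, 0, 4, 2, 4, 3] .nil .nil) .nil) (.cons [0, 2, 1, 6, 4, 6, 8] .nil (.cons [0, 4, 2, 1, 4, 6, 8] .nil (.cons [8, 4, 6, 1, 4, 6, 8] (.cons [1, 4, 6, 1,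 4, 6, 4, 1, 4, 6] (.cons [1, 4, 1, 2, 4] .nil .nil) .nil) (.cons [4, 8, 2, 1, 4, 6, 8] (.cons [1, 4, 6, 3, 4, 6, 3, 0, 4, 6] .nil .nil) (.cons [4, 0, 0, 6, 4, 6, 8] .nil (.cons [2, 2, 8, 1, 4, 6, 8] .nil (.cons [4, 6, 1, 3, 4, 6, 8] (.cons [6, 3, 4, 1, 6, 4, 6] (.cons [4, 2, 2, 1] .nil .nil) .nil) (.cons [4, 8, 0, 8, 4, 6, 8] .nil (.cons [1, 6, 0, 0, 4, 6, 8] .nil (.cons [6, 0, 3, 3, 4, 6, 8] (.cons [2, 0, 4, 3, 6, 0, 0, 4, 6] (.cons [0, 0, 4, 0, 3] .nil .nil) .nil) (.cons [4, 1, 3, 6, 4, 6, 8] (.cons [3, 4, 6, 0, 3, 3, 4, 6] (.cons [2, 0, 3, 3, 0] .nil .nil) .nil) (.cons [1, 4, 8, 6, 4, 6, 8] .nil (.cons [3, 4, 8, 6, 4, 6, 8] .nil (.cons [6, 4, 8, 6, 4, 6, 8] (.cons [1, 1, 3, 4, 0, 6, 4, 6] .nil .nil) (.cons [2, 6, 3, 8, 4, 6, 8] (.cons [3, 4, 2, 4, 6, 2, 1, 4, 6] .nil .nil) (.cons [4, 6, 3, 8, 4, 6, 8] .nil (.cons [8, 6, 3, 8, 4, 6, 8] (.cons [6, 4,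 6, 4, 0, 4, 6] .nil .nil) (.cons [2, 8, 6, 0, 4, 6, 8] (.cons [4, 6, 1, 1, 4, 6] .nil .nil) (.cons [4, 8, 6, 0, 4, 6, 8] .nil (.cons [4, 8, 1, 6, 4, 6, 8] (.cons [4, 1, 4, 0, 6, 4, 6] .nil .nil) (.cons [0, 8, 2, 6, 4, 6, 8] .nil (.cons [2, 8, 2, 6, 4, 6, 8] .nil (.cons [0, 8, 0, 6, 4, 6, 8] (.cons [3, 4, 0, 0, 4, 0, 6, 4, 6] .nil .nil) (.cons [4, 8, 0, 6, 4, 6, 8] .nil (.cons [3, 8, 6, 1, 4, 6, 8] .nil (.cons [4, 8, 6, 1, 4, 6, 8] (.cons [4, 0, 3, 4, 1, 4, 6] .nil .nil) (.cons [6, 8, 6, 1, 4, 6, 8] (.cons [2, 4, 6, 1, 4, 6] .nil .nil) (.cons [6, 4, 1, 6, 4, 6, 8] (.cons [0, 4, 0, 6, 4, 6, 1, 4, 6] .nil .nil) (.cons [0, 8, 4, 8, 4, 6, 8] (.cons [2, 4, 6, 0, 0, 4, 1, 6, 4, 6] .nil .nil) (.cons [6, 3, 4, 1, 4, 6, 8] .nil (.cons [1, 2, 8, 6, 4, 6, 8] .nil (.cons [8, 6, 3, 3, 4, 6, 8] (.cons [0, 3, 6, 1, 4, 0, 6, 4, 6] .nil .nil) (.cons [0, 4, 6, 0, 4, 6, 8]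 .nil (.cons [4, 0, 8, 6, 4, 6, 8] (.cons [2, 2, 1, 6, 0, 4, 6, 1, 4, 6] (.cons [1, 4, 0, 2, 4] .nil .nil) .nil) (.cons [0, 4, 0, 6, 4, 6, 8] (.cons [6, 4, 0, 4, 6, 4, 3, 1, 4, 6] (.cons [4, 2, 4, 0, 0, 4] .nil .nil) .nil) (.cons [2, 2, 4, 6, 0, 4, 6, 8] .nil (.cons [2, 6, 4, 2, 0, 4, 6, 8] (.cons [6, 4, 6, 1, 1, 4, 6, 0, 4, 6] .nil .nil) (.cons [4, 6, 4, 2, 8, 4, 6, 8] (.cons [1, 4, 0, 6, 1, 4, 6] (.cons [1, 3, 0, 4, 2] .nil .nil) .nil) (.cons [2, 1, 4, 6, 8, 4, 6, 8] .nil (.cons [1, 6, 4, 3, 1, 4, 6, 8] (.cons [2, 6, 0, 4, 1, 2, 6, 4, 6] (.cons [3, 0, 4, 2] .nil .nil) .nil) (.cons [4, 6, 4, 3, 1, 4, 6, 8] (.cons [1, 4, 6, 0, 4, 2, 0, 4, 6] .nil .nil) (.cons [2, 2, 4, 6, 8, 4, 6, 8] .nil (.cons [6, 3, 4, 6, 8, 4, 6, 8] .nil (.cons [8, 6, 4, 2, 1, 4, 6, 8] (.cons [3, 3, 4, 6, 4, 1, 3, 0, 4, 6] (.cons [2, 1, 3, 0] .nil .nil) .nil) (.cons [4, 2, 4, 6, 1,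 4, 6, 8] (.cons [0, 4, 3, 0, 4, 6] (.cons [4, 3, 0, 3] .nil .nil) .nil) (.cons [2, 4, 3, 0, 6, 4, 6, 8] (.cons [0, 6, 0, 4, 0, 0, 6, 4, 6] (.cons [0, 3, 0, 4, 0, 3] .nil .nil) .nil) (.cons [8, 4, 2, 1, 6, 4, 6, 8] .nil (.cons [6, 8, 4, 0, 6, 4, 6, 8] (.cons [1, 1, 4, 2, 6, 4, 6, 4, 0, 4, 6] .nil .nil) (.cons [0, 4, 1, 3, 6, 4, 6, 8] (.cons [1, 1, 4, 1, 6, 4, 1, 3, 4, 6] .nil .nil) (.cons [3, 4, 1, 3, 6, 4, 6, 8] .nil (.cons [6, 4, 1, 3, 6, 4, 6, 8] .nil (.cons [0, 3, 4, 0, 6, 4, 6, 8] (.cons [6, 4, 1, 3, 0, 6, 4, 6] (.cons [2, 2, 4, 0, 0, 3] .nil .nil) .nil) (.cons [3, 4, 8, 6, 0, 4, 6, 8] (.cons [3, 4, 1, 3, 0, 6, 4, 6] .nil .nil) (.cons [6, 4, 2, 8, 6, 4, 6, 8] .nil (.cons [4, 6, 0, 0, 0, 4, 6, 8] .nil (.cons [2, 0, 4, 6, 1, 4, 6, 8] .nil (.cons [4, 2, 4, 8, 6, 4, 6, 8] (.cons [0, 6, 4, 0, 6, 4, 1, 6, 4, 6] (.cons [3, 4, 1, 4, 1] .nil .nil) .nil) (.cons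 [6, 1, 4, 6, 0, 4, 6, 8] .nil (.cons [0, 4, 0, 6, 1, 4, 6, 8] (.cons [3, 4, 1, 6, 0, 4, 6, 1, 4, 6] (.cons [3, 4, 3, 0, 2, 1, 4] .nil .nil) .nil) (.cons [6, 1, 4, 1, 6, 4, 6, 8] (.cons [0, 6, 2, 4, 6, 0, 4, 6] (.cons [0, 2, 2, 4, 0, 0] .nil .nil) .nil) (.cons [6, 4, 8, 1, 6, 4, 6, 8] (.cons [1, 6, 2, 1, 4, 6] (.cons [1, 2, 2, 4, 3] (.cons [2, 1] (.leaf 1) .nil) .nil) .nil) .nil)))))))))))))))))))))))))))))))))))))))))))))))))))))))))))))))))))))))))))))))))))))))))))))))))))))))))))))))))))))))))))))))))))))))))))) (⟨cx_l0.b, cx_l0.S, [], cx_R0, 0⟩ :: cx_tl) (0 :: cx_lk) Pd.nil 0 = true := by decide +kernel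
theorem cx_sound {G : Type*} [Group G] {φ : G →* Equiv.Perm ℕ} {γ : ℕ → G}
    (M : Model φ γ 12 m_ns m_ts) : ChainSound φ (gp γ [0, 2, 4, 6, 8]) 12 [] cx_ls :=
  ⟨Level.ok_sound' M cx_l0_ok,
   Level.ok_sound' M cx_l1_ok,
   Level.ok_sound' M cx_l2_ok,
   Level.okT_sound M cx_l3_ok, trivial⟩
theorem cx_cent {G : Type*} [Group G] {φ : G →* Equiv.Perm ℕ} {γ : ℕ → G}
    (C : Cert φ γ 12 m_ns m_ts [0, 2, 4, 6, 8] c_ls) : Cent γ cx_S.u cx_S.Cl 28 :=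
  have X := (C.rechain (cx_sound C.M) (by decide +kernel)).exact
  have A := Srch.auxB_sound (S := cx_S) C.M (K := ⊤) le_top rfl cx_aux
  have F := fun {tr : Tr} {R : ℕ} => Srch.found_of_run (S := cx_S) C.M C.base (by decide +kernel) X A (tr := tr) (R := R)
  Cent.of_found (S := cx_S) C.M X rfl (F cx_r0) cx_cov

end Cfsg.Agent.RuC
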