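import Cfsg.Agent.RuC.Cls
import Cfsg.Agent.CGT.Mat4

set_option autoImplicit false

/-! Short vectors and their reductions. -/

namespace Cfsg.Agent.RuC

open Cfsg.Spor Cfsg.Agent.CGT Matrix Finset

/-- The real coordinates. -/
def rc (f : ℕ → Z) (t : ℕ) : ℤ := if t % 2 = 0 then (f (t / 2)).re else (f (t / 2)).im

theorem rc_even (f : ℕ → Z) (k : ℕ) : rc f (2 * k) = (f k).re := by
  rw [rc, if_pos (by omega), Nat.mul_div_cancel_left _ (by norm_num)]

theorem rc_odd (f : ℕ → Z) (k : ℕ) : rc f (2 * k + 1) = (f k).im := by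
  rw [rc, if_neg (by omega), show (2 * k + 1) / 2 = k by omega]

def X : RuVec →+ (ℕ → ℤ) := AddMonoidHom.mk' (fun v => rc (co v)) fun v w => funext fun t => by
  simp only [rc, co, Pi.add_apply]
  split_ifs <;> simp

theorem X_vec {l : List Z} (h : l.length = 28) : X (vec l) = rc (nth 0 l) :=
  congrArg rc (funext fun k => by
    by_cases hk : k < 28
    · exact co_vec l hk
    · rw [co, dif_neg hk, nth_eq, List.getD_eq_default _ _ (by omega)])

theorem X_norm (v : RuVec) : ((List.range 56).map fun t => X v t ^ 2).sum = ruNorm v := by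
  have key : ∀ n, ∑ t ∈ range (2 * n), rc (co v) t ^ 2 = ∑ k ∈ range n, (co v k).norm := fun n => by
    induction n with
    | zero => rfl
    | succ n ih =>
      rw [mul_add, mul_one, sum_range_succ, sum_range_succ, sum_range_succ, ih, rc_even, rc_odd, Zsqrtd.norm_def]
      ring
  refine (key 28).trans ?_
  rw [← sum_co, ruNorm]
  simp only [co_σ]

/-- The congruences hold on the basis. -/
noncomputable def rcB (D : CD) (B : List (List Z)) : Bool :=
  allL B fun l => Nat.beq l.length 28 && (decide (D.RC (rc (nth 0 l))) &&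
    decide (D.RC (rc (nth 0 (l.map (gI * ·))))))

theorem rcB_sound {D : CD} {B : List (List Z)} (h : rcB D B = true)
    (ind : ∀ {P : RuVec → Prop}, (∀ l ∈ B, P (vec l)) → P 0 → (∀ v w, P v → P w → P (v + w)) →
      (∀ (a : Z) v, P v → P (a • v)) → ∀ v ∈ ruLattice, P v) : ∀ v ∈ ruLattice, D.RC (X v) := by
  have h0 : D.RC 0 := ⟨fun _ _ => by simp, fun _ _ => by simp⟩
  have h1 : ∀ v : RuVec, gI • gI • v = (-1 : ℤ) • v := fun v => by
    rw [smul_smul, show gI * gI = -1 from rfl, neg_one_smul, neg_one_smul]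
  refine fun v hv => (ind (P := fun v => D.RC (X v) ∧ D.RC (X (gI • v))) (fun l hl => ?_)
    (by simpa using h0) (fun v w a b => ?_) (fun z v a => ?_) v hv).1
  · have h2 := allL_iff.1 h l hl
    simp only [Bool.and_eq_true, Nat.beq_eq, decide_eq_true_eq] at h2
    have h3 : gI • vec l = vec (l.map (gI * ·)) := funext fun p => by
      rw [Pi.smul_apply, vec, vec, nth_eq, nth_eq, smul_eq_mul, ← List.getD_map _ 0 (gI * ·), mul_zero]
    rw [h3, X_vec h2.1, X_vec (by simpa using h2.1)]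
    exact h2.2
  · rw [smul_add, map_add, map_add]
    exact ⟨a.1.add b.1, a.2.add b.2⟩
  · rw [smul_comm gI z, smul_eq z v, smul_eq z (gI • v), h1]
    simp only [map_add, map_zsmul]
    exact ⟨(a.1.smul _).add (a.2.smul _), (a.2.smul _).add ((a.1.smul _).smul _)⟩

/-- The unit or zero with a given reduction. -/
def lf (a : ZMod 5) : Z := if a = 1 then 1 else if a = 2 then gI else if a = 3 then -gI else if a = 4 then -1 else 0

def wz (c sm : ℕ) : Z := ⟨CD.sg c sm 0, CD.sg c sm 1⟩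

def wv (c sm : ℕ) : RuVec := fun p => ⟨CD.sg c sm (2 * σ p), CD.sg c sm (2 * σ p + 1)⟩

/-- The code of `a` times the entry. -/
noncomputable def dT (a c sm : ℕ) : ℕ :=
  field 4 15 0x72107240731073407420743071207130713071207430742073407310724072107000700070007000
    (Nat.add (Nat.mul 16 a) (Nat.add (Nat.land c 3) (Nat.mul 4 (Nat.land sm 3))))

theorem dT_spec {a : ℕ} (ha : a < 5) (c sm : ℕ) (h : dT a c sm < 5) :
    e5 (dT a c sm) = e5 a * φ (wz c sm) ∧ lf (φ (wz c sm)) = wz c sm := by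
  have key : ∀ a < 5, ∀ c < 4, ∀ sm < 4, dT a c sm < 5 →
      e5 (dT a c sm) = e5 a * φ (wz c sm) ∧ lf (φ (wz c sm)) = wz c sm := by decide +kernel
  have h1 : wz c sm = wz (c &&& 3) (sm &&& 3) := by
    simp only [wz, CD.sg, Nat.testBit_and, show Nat.testBit 3 0 = true from rfl,
      show Nat.testBit 3 1 = true from rfl, Bool.and_true]
  have h2 : dT a c sm = dT a (c &&& 3) (sm &&& 3) := by
    simp only [dT, land_eq, Nat.and_assoc, Nat.and_self]
  rw [h2] at h
  rw [h1, h2]
  exact key a ha _ (Nat.lt_succ_of_le Nat.and_le_right) _ (Nat.lt_succ_of_le Nat.and_le_right) h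

/-- Search for the point. -/
noncomputable def fnd (P : List (List ℕ)) (a c sm acc : ℕ) : Bool :=
  List.rec (motive := fun _ => ℕ → ℕ → ℕ → Bool) (fun _ _ acc => !Nat.beq acc 0)
    (fun L _ ih c sm acc => lt' (Nat.land acc (nth 0 L (dT a c sm))) fun acc' =>
      lt' (Nat.shiftRight c 2) fun c' => lt' (Nat.shiftRight sm 2) fun sm' => ih c' sm' acc') P c sm acc

theorem fnd_bits {P : List (List ℕ)} {a c sm acc : ℕ} (h : fnd P a c sm acc = true) :
    ∃ n, acc.testBit n = true ∧ ∀ r < P.length,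
      (nth 0 (nth [] P r) (dT a (c >>> (2 * r)) (sm >>> (2 * r)))).testBit n = true := by
  induction P generalizing c sm acc with
  | nil =>
    have h' : (!Nat.beq acc 0) = true := h
    exact (Nat.exists_testBit_of_ne_zero (x := acc) fun e => by simp [e] at h').imp fun n hn => ⟨hn, by simp⟩
  | cons L P ih =>
    obtain ⟨n, h1, h2⟩ := ih (c := c >>> 2) (sm := sm >>> 2) (acc := acc &&& nth 0 L (dT a c sm)) h
    rw [Nat.testBit_and, Bool.and_eq_true] at h1
    refine ⟨n, h1.1, fun r hr => ?_⟩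
    rcases r with _ | r
    · exact h1.2
    · have := h2 r (by simpa using hr)
      rwa [← Nat.shiftRight_add, ← Nat.shiftRight_add, add_comm 2] at this

noncomputable def fndA (P : List (List ℕ)) (N t c sm : ℕ) : Bool :=
  lt' (Nat.mul 2 (Nat.div t 2)) fun s => lt' (field 4 15 0x42310 (dT 1 (Nat.shiftRight c s) (Nat.shiftRight sm s)))
    fun a => Nat.blt a 5 && fnd P a c sm (msk N)

/-- The words of small weight. -/
noncomputable def chk1 (D : CD) (P : List (List ℕ)) (N : ℕ) (z : ℕ × List ℕ) : Bool :=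
  D.chk16 (fndA P N) z.1 z.2 || (D.chk8 z.1 || Nat.beq z.1 0)

noncomputable def chkE (P : List (List ℕ)) (N : ℕ) : Bool :=
  allLt 56 fun t => fndA P N t (2 ^ t) 0 && fndA P N t (2 ^ t) (2 ^ t)

variable {T : FT} {P : List (List ℕ)} {N : ℕ}

/-- The points. -/
noncomputable abbrev pt (P : List (List ℕ)) : ℕ → RuIdx → ZMod 5 := FT.pt e5 σ P

def Good (P : List (List ℕ)) (N : ℕ) (w : RuVec) : Prop :=
  (∃ n < N, ∃ a < 5, pt P n = e5 a • red w) ∧ ∀ p, lf (φ (w p)) = w p

/-- The conclusion of the classification. -/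
def Cl (P : List (List ℕ)) (N : ℕ) : Prop :=
  ∀ v ∈ ruLattice, ruNorm v = 16 → Good P N v ∨ ∃ w, v = (4 : Z) • w ∧ Good P N w

theorem pts_len (hP : T.ptsB 28 N P = true) (p : RuIdx) :
    (nth [] P (σ p)).length ≤ T.q ∧ ohB N (nth [] P (σ p)) = true := by
  unfold FT.ptsB at hP
  simp only [Bool.and_eq_true, allL_iff, Nat.beq_eq, Nat.ble_eq] at hP
  exact hP.2.1 _ (FT.nth_mem _ ((σ p).2.trans_eq hP.1.symm))

section
variable (hT : T.OK e5) (hq : T.q = 5) (hP : T.ptsB 28 N P = true)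
include hT hq hP

theorem fnd_sound {a c sm acc : ℕ} (ha : a < 5) (h : fnd P a c sm acc = true) :
    (∃ n, acc.testBit n = true ∧ pt P n = e5 a • red (wv c sm)) ∧ ∀ p, lf (φ (wv c sm p)) = wv c sm p := by
  obtain ⟨n, h1, h2⟩ := fnd_bits h
  obtain ⟨p1, -, -⟩ := FT.ptsB_sound (σ := σ) hT hP
  have key : ∀ p, pt P n p = e5 a * φ (wv c sm p) ∧ lf (φ (wv c sm p)) = wv c sm p := fun p => by
    have h3 := h2 _ ((σ p).2.trans_eq p1.1.symm)
    have h4 : wv c sm p = wz (c >>> (2 * (σ p : ℕ))) (sm >>> (2 * (σ p : ℕ))) := by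
      simp only [wv, wz, CD.sg, Nat.testBit_shiftRight, add_zero]
    have h5 : dT a (c >>> (2 * (σ p : ℕ))) (sm >>> (2 * (σ p : ℕ))) < 5 := by
      by_contra hc
      rw [nth_eq, List.getD_eq_default _ _ (by have := (pts_len hP p).1; omega)] at h3
      simp at h3
    rw [h4, ← (dT_spec ha _ _ h5).1]
    exact ⟨(p1.2 p n _ (hq ▸ h5) h3).symm, (dT_spec ha _ _ h5).2⟩
  exact ⟨⟨n, h1, funext fun p => (key p).1⟩, fun p => (key p).2⟩

theorem fndA_sound {t c sm : ℕ} (h : fndA P N t c sm = true) : Good P N (wv c sm) := by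
  simp only [fndA, lt'_eq, Bool.and_eq_true, Nat.blt_eq] at h
  obtain ⟨⟨n, h1, h2⟩, h3⟩ := fnd_sound hT hq hP h.1 h.2
  rw [msk_eq, Nat.testBit_two_pow_sub_one, decide_eq_true_eq] at h1
  exact ⟨⟨n, h1, _, h.1, h2⟩, h3⟩

omit hT hq hP in
theorem eq_wv {v : RuVec} {c sm : ℕ} {a : ℤ} (h : ∀ t < 56, X v t = a * CD.sg c sm t) : v = (a : Z) • wv c sm :=
  funext fun p => by
    have h1 := (σ p).2
    have h2 : X v (2 * σ p) = (v p).re := (rc_even _ _).trans (by rw [co_σ])
    have h3 : X v (2 * σ p + 1) = (v p).im := (rc_odd _ _).trans (by rw [co_σ])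
    ext
    · rw [← h2, h _ (by omega)]; simp [wv]
    · rw [← h3, h _ (by omega)]; simp [wv]

theorem cls {D : CD} (hD : D.okB = true) (hR : ∀ v ∈ ruLattice, D.RC (X v)) {l : List (ℕ × List ℕ)}
    (h1 : D.lowB (l.map Prod.fst) = true) (h2 : ∀ z ∈ l, chk1 D P N z = true) (h0 : D.chk0 = true)
    (hE : chkE P N = true) : Cl P N := fun v hv hn => by
  have h := hR v hv
  have hx := (X_norm v).trans hn
  obtain ⟨z, h3, h4⟩ := List.mem_map.1 (CD.lowB_sound hD h1 h (by have := CD.nrm_le (x := X v) (List.range 56); omega))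
  have h5 := h2 z h3
  simp only [chk1, Bool.or_eq_true, h4, Nat.beq_eq] at h5
  rcases h5 with h5 | h5 | h5
  · obtain ⟨t, c, sm, h6, h7⟩ := CD.chk16_sound hD h hx h5
    rw [eq_wv (v := v) (c := c) (sm := sm) (a := 1) (fun t ht => by rw [h7 t ht, one_mul]), Int.cast_one, one_smul]
    exact Or.inl (fndA_sound hT hq hP h6)
  · exact (CD.chk8_sound hD h hx h5).elim
  · have h6 := CD.chk0_sound hD h0 h hx h5
    replace hx : ∑ t ∈ range 56, X v t ^ 2 = 16 := hx
    obtain ⟨t, ht, h7⟩ := exists_ne_zero_of_sum_ne_zero (hx.trans_ne (by norm_num))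
    rw [← add_sum_erase _ _ ht] at hx
    have h8 := sum_nonneg (s := (range 56).erase t) fun i _ => sq_nonneg (X v i)
    have h9 : X v t = 4 ∨ X v t = -4 := by
      have h9 := h6 t (mem_range.1 ht)
      have h10 : X v t ≠ 0 := fun e => h7 (by rw [e]; rfl)
      have h11 : -4 ≤ X v t ∧ X v t ≤ 4 := abs_le_of_sq_le_sq' (by omega) (by norm_num)
      omega
    have h10 : ∀ i < 56, i ≠ t → X v i = 0 := fun i hi e => pow_eq_zero_iff two_ne_zero |>.1
      ((sum_eq_zero_iff_of_nonneg fun i _ => sq_nonneg (X v i)).1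
        (by rcases h9 with e | e <;> rw [e] at hx <;> omega) i (mem_erase.2 ⟨e, mem_range.2 hi⟩))
    have h11 := allLt_iff.1 hE t (mem_range.1 ht)
    rw [Bool.and_eq_true] at h11
    rcases h9 with e | e
    · refine Or.inr ⟨_, eq_wv (a := 4) fun i hi => ?_, fndA_sound hT hq hP h11.1⟩
      by_cases e' : i = t
      · simp [CD.sg, e', e]
      · simp [CD.sg, h10 i hi e', Nat.testBit_two_pow_of_ne (Ne.symm e')]
    · refine Or.inr ⟨_, eq_wv (a := 4) fun i hi => ?_, fndA_sound hT hq hP h11.2⟩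
      by_cases e' : i = t
      · simp [CD.sg, e', e]
      · simp [CD.sg, h10 i hi e', Nat.testBit_two_pow_of_ne (Ne.symm e')]

end

theorem red_smul (a : Z) (v : RuVec) : red (a • v) = φ a • red v := funext fun p => by simp [red]

theorem norm_smul (a : Z) (v : RuVec) : ruNorm (a • v) = a.norm * ruNorm v := by
  simp [ruNorm, Zsqrtd.norm_mul, mul_sum]

theorem Cl.pt (h : Cl P N) {v : RuVec} (hv : v ∈ ruLattice) (hn : ruNorm v = 16) :
    ∃ n < N, ∃ a < 5, pt P n = e5 a • red v := by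
  rcases h v hv hn with h | ⟨w, rfl, ⟨n, h1, a, h2, h3⟩, -⟩
  · exact h.1
  · have : ∀ a < 5, ∃ b < 5, e5 a = e5 b * φ 4 := by decide +kernel
    obtain ⟨b, h4, h5⟩ := this a h2
    exact ⟨n, h1, b, h4, by rw [h3, red_smul, smul_smul, h5]⟩

theorem Cl.inj (h : Cl P N) {v w : RuVec} (hv : v ∈ ruLattice) (hn : ruNorm v = 16) (hw : w ∈ ruLattice)
    (hm : ruNorm w = 16) (e : red v = red w) : v = w := by
  have k1 : ∀ {v w : RuVec}, Good P N v → Good P N w → red v = red w → v = w := fun a b e =>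
    funext fun p => by rw [← a.2, ← b.2]; exact congrArg lf (congrFun e p)
  have k2 : ∀ {v w : RuVec}, Good P N v → Good P N w → red v = red ((4 : Z) • w) → ruNorm v = 16 →
      ruNorm ((4 : Z) • w) ≠ 16 := fun {v w} a b e h1 => by
    have h2 : ∀ z : ZMod 5, lf (φ 4 * z) = -1 * lf z := by decide +kernel
    have h3 : v = (-1 : Z) • w := funext fun p => by
      have h4 : φ (v p) = φ 4 * φ (w p) := (congrFun e p).trans (map_mul _ _ _)
      rw [← a.2, h4, h2, b.2]; rfl
    rw [h3, norm_smul, show Zsqrtd.norm (-1 : Z) = 1 from rfl, one_mul] at h1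
    rw [norm_smul, h1]
    decide
  rcases h v hv hn with a | ⟨v, rfl, a⟩ <;> rcases h w hw hm with b | ⟨w, rfl, b⟩
  · exact k1 a b e
  · exact (k2 a b e hn hm).elim
  · exact (k2 b a e.symm hm hn).elim
  · rw [red_smul, red_smul] at e
    rw [k1 a b (smul_right_injective _ (by decide) e)]

end Cfsg.Agent.RuC
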